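import Groth.Agent.PicLoc.K728.HensFam
import Groth.Agent.S0527
import Mathlib.RingTheory.TensorProduct.Quotient
import Mathlib.RingTheory.LocalRing.ResidueField.Basic

/-!
# `π : G(A) → (R/m^n) ⊗_k A`

* `finite_quotient_pow` : `R/m^n` is finite over `k`.
* `piN`, `piN_comp_eta`, `qmap_comp_piN`; `back`, `back_comp_piN`.
-/

set_option autoImplicit false
set_option linter.style.haveILetI false
universe u
open CategoryTheory CategoryTheory.Limits TensorProduct

namespace K728.PiN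

open K728.HensFam K728.HensRing

section fin

variable {k : Type u} [Field k] {R : Type u} [CommRing R] [IsNoetherianRing R] [IsLocalRing R] [Algebra k R]

theorem exists_fg_sup (hres : Function.Surjective (algebraMap k (IsLocalRing.ResidueField R))) (n : ℕ) :
    ∃ N : Submodule k R, N.FG ∧ N ⊔ ((IsLocalRing.maximalIdeal R) ^ n).restrictScalars k = ⊤ := by
  induction n with
  | zero =>
    refine ⟨⊥, Submodule.fg_bot, ?_⟩
    rw [pow_zero, Ideal.one_eq_top]
    exact sup_top_eq _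
  | succ n ih =>
    obtain ⟨N, hN, h⟩ := ih
    obtain ⟨T, hT⟩ := (isNoetherianRing_iff_ideal_fg R).mp inferInstance ((IsLocalRing.maximalIdeal R) ^ n)
    refine ⟨N ⊔ Submodule.span k (T : Set R), hN.sup (Submodule.fg_span T.finite_toSet), ?_⟩
    rw [eq_top_iff, ← h, sup_assoc]
    refine sup_le_sup_left ?_ _
    intro x hx
    change x ∈ (IsLocalRing.maximalIdeal R) ^ n at hx
    have hx' := hx
    rw [← hT] at hx
    have hTm : ∀ y ∈ Submodule.span k (T : Set R), y ∈ (IsLocalRing.maximalIdeal R) ^ n := by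
      intro y hy
      have : Submodule.span k (T : Set R) ≤ ((IsLocalRing.maximalIdeal R) ^ n).restrictScalars k := by
        rw [Submodule.span_le, ← hT]
        exact Submodule.subset_span
      exact this hy
    refine Submodule.span_induction
      (p := fun x _ => x ∈ Submodule.span k (T : Set R) ⊔ ((IsLocalRing.maximalIdeal R) ^ (n + 1)).restrictScalars k)
      ?_ ?_ ?_ ?_ hx
    · intro t ht
      exact Submodule.mem_sup_left (Submodule.subset_span ht)
    · exact zero_mem _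
    · intro a b _ _ ha hb
      exact add_mem ha hb
    · intro r y _ hy
      obtain ⟨s, hs, μ, hμ, rfl⟩ := Submodule.mem_sup.mp hy
      obtain ⟨c, hc⟩ := hres (IsLocalRing.residue R r)
      have hr : r - algebraMap k R c ∈ IsLocalRing.maximalIdeal R := by
        rw [← IsLocalRing.residue_eq_zero_iff, map_sub, sub_eq_zero, ← hc]
        rfl
      have e : r • (s + μ) = c • s + ((r - algebraMap k R c) * s + r * μ) := by
        rw [smul_eq_mul, Algebra.smul_def c s]; ring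
      rw [e]
      refine add_mem (Submodule.mem_sup_left (Submodule.smul_mem _ _ hs)) (Submodule.mem_sup_right ?_)
      change _ ∈ (IsLocalRing.maximalIdeal R) ^ (n + 1)
      refine add_mem ?_ (Ideal.mul_mem_left _ _ hμ)
      rw [pow_succ']
      exact Ideal.mul_mem_mul hr (hTm s hs)

theorem finite_quotient_pow (hres : Function.Surjective (algebraMap k (IsLocalRing.ResidueField R))) (n : ℕ) :
    Module.Finite k (R ⧸ (IsLocalRing.maximalIdeal R) ^ n) := by
  obtain ⟨N, hN, h⟩ := exists_fg_sup hres n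
  let q : R →ₗ[k] (R ⧸ (IsLocalRing.maximalIdeal R) ^ n) := (Ideal.Quotient.mkₐ k _).toLinearMap
  have h1 : N.map q = ⊤ := by
    rw [eq_top_iff]
    intro x _
    obtain ⟨x, rfl⟩ := Ideal.Quotient.mk_surjective x
    have hx : x ∈ N ⊔ ((IsLocalRing.maximalIdeal R) ^ n).restrictScalars k := by rw [h]; trivial
    obtain ⟨s, hs, μ, hμ, rfl⟩ := Submodule.mem_sup.mp hx
    refine ⟨s, hs, ?_⟩
    change Ideal.Quotient.mk _ s = Ideal.Quotient.mk _ (s + μ)
    rw [map_add, Ideal.Quotient.eq_zero_iff_mem.mpr hμ, add_zero]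
  exact ⟨h1 ▸ hN.map q⟩

end fin

variable {k : Type u} [Field k] {R : Type u} [CommRing R] [IsLocalRing R] [Algebra k R]
  (𝓗 : PicLoc.HensFamily k R) (n : ℕ)

variable (R) in
/-- `(R/m^n) ⊗ A`. -/
abbrev Q (A : CommAlgCat.{u} k) : Type u := (R ⧸ (IsLocalRing.maximalIdeal R) ^ n) ⊗[k] A

variable (R) in
/-- `R ⊗ A → (R/m^n) ⊗ A`. -/
noncomputable abbrev tq (A : CommAlgCat.{u} k) : R ⊗[k] A →+* Q R n A :=
  (Algebra.TensorProduct.map (Ideal.Quotient.mkₐ k ((IsLocalRing.maximalIdeal R) ^ n)) (AlgHom.id k A)).toRingHom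

variable (R) in
/-- `(R/m^n) ⊗ A → (R/m^n) ⊗ A'`. -/
noncomputable abbrev qmap {A A' : CommAlgCat.{u} k} (g : A ⟶ A') : Q R n A →+* Q R n A' :=
  (Algebra.TensorProduct.map (AlgHom.id k _) g.hom).toRingHom

theorem tq_tmul (A : CommAlgCat.{u} k) (r : R) (a : A) :
    tq R n A (r ⊗ₜ a) = (Ideal.Quotient.mk _ r) ⊗ₜ a := rfl

theorem qmap_comp_tq {A A' : CommAlgCat.{u} k} (g : A ⟶ A') : (qmap R n g).comp (tq R n A) = (tq R n A').comp (tmap R g) := by
  refine RingHom.ext fun x => ?_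
  induction x using TensorProduct.induction_on with
  | zero => simp only [map_zero]
  | add x y hx hy => simp only [map_add, hx, hy]
  | tmul r a => rfl

theorem map_mExt_pow (A : CommAlgCat.{u} k) : ((PicLoc.mExt k R A).map (tq R n A)) ^ n = ⊥ := by
  rw [← Ideal.map_pow, PicLoc.mExt, ← Ideal.map_pow, Ideal.map_map, eq_bot_iff, Ideal.map_le_iff_le_comap]
  intro r hr
  rw [Ideal.mem_comap, Ideal.mem_bot]
  change (Ideal.Quotient.mk _ r) ⊗ₜ[k] (1 : A) = 0
  rw [Ideal.Quotient.eq_zero_iff_mem.mpr hr, TensorProduct.zero_tmul]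

theorem hensQ (A : CommAlgCat.{u} k) : HenselianRing (Q R n A) ((PicLoc.mExt k R A).map (tq R n A)) := by
  refine Groth.Agent.S0527.result _ _ fun x hx => ⟨n, ?_⟩
  have := Ideal.pow_mem_pow hx n
  rw [map_mExt_pow] at this
  exact this

/-- `π : G(A) → (R/m^n) ⊗ A`. -/
noncomputable def piN (A : CommAlgCat.{u} k) : (𝓗.G.obj A).right →+* Q R n A :=
  ((isHens 𝓗 A).existsUnique_lift (hensQ n A) (tq R n A) le_rfl).choose

theorem piN_comp_eta (A : CommAlgCat.{u} k) : (piN 𝓗 n A).comp (eta 𝓗 A) = tq R n A :=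
  ((isHens 𝓗 A).existsUnique_lift (hensQ n A) (tq R n A) le_rfl).choose_spec.1

theorem piN_str (A : CommAlgCat.{u} k) (r : R) : piN 𝓗 n A (str 𝓗 A r) = (Ideal.Quotient.mk _ r) ⊗ₜ 1 := by
  rw [← eta_includeLeft]
  exact congr($(piN_comp_eta 𝓗 n A) (r ⊗ₜ 1))

theorem piN_alg (A : CommAlgCat.{u} k) (a : A) : piN 𝓗 n A (alg 𝓗 A a) = 1 ⊗ₜ a :=
  congr($(piN_comp_eta 𝓗 n A) (1 ⊗ₜ a))

/-- `π` is natural. -/
theorem qmap_comp_piN {A A' : CommAlgCat.{u} k} (g : A ⟶ A') :
    (qmap R n g).comp (piN 𝓗 n A) = (piN 𝓗 n A').comp (mapG 𝓗 g) := by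
  refine (isHens 𝓗 A).hom_ext (hensQ n A') ?_ ?_
  · rw [RingHom.comp_assoc, piN_comp_eta, qmap_comp_tq, ← Ideal.map_map, map_tmap_mExt]
  · rw [RingHom.comp_assoc, piN_comp_eta, qmap_comp_tq, RingHom.comp_assoc, mapG_comp_eta, ← RingHom.comp_assoc,
      piN_comp_eta]

theorem alg_algebraMap (A : CommAlgCat.{u} k) (c : k) : alg 𝓗 A (algebraMap k A c) = str 𝓗 A (algebraMap k R c) := by
  rw [← eta_includeLeft]
  change eta 𝓗 A (1 ⊗ₜ algebraMap k A c) = _
  congr 1
  rw [Algebra.algebraMap_eq_smul_one, Algebra.algebraMap_eq_smul_one, TensorProduct.tmul_smul, TensorProduct.smul_tmul']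

/-- `(R/m^n) ⊗ A → G(A)/m^n G(A)`. -/
noncomputable def back (A : CommAlgCat.{u} k) : Q R n A →+* (𝓗.G.obj A).right ⧸ (mG 𝓗 A) ^ n :=
  letI : Algebra k ((𝓗.G.obj A).right ⧸ (mG 𝓗 A) ^ n) :=
    ((Ideal.Quotient.mk ((mG 𝓗 A) ^ n)).comp ((str 𝓗 A).comp (algebraMap k R))).toAlgebra
  (Algebra.TensorProduct.lift
    (R := k) (S := k)
    (AlgHom.mk (Ideal.Quotient.lift _ ((Ideal.Quotient.mk ((mG 𝓗 A) ^ n)).comp (str 𝓗 A)) (fun r hr => by
      rw [RingHom.comp_apply, Ideal.Quotient.eq_zero_iff_mem, ← Ideal.map_pow]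
      exact Ideal.mem_map_of_mem _ hr)) (fun c => rfl) : (R ⧸ (IsLocalRing.maximalIdeal R) ^ n) →ₐ[k] _)
    (AlgHom.mk ((Ideal.Quotient.mk ((mG 𝓗 A) ^ n)).comp (alg 𝓗 A)) (fun c => by
      change Ideal.Quotient.mk _ (alg 𝓗 A (algebraMap k A c)) = Ideal.Quotient.mk _ (str 𝓗 A (algebraMap k R c))
      rw [alg_algebraMap]) : A →ₐ[k] _) (fun _ _ => Commute.all _ _)).toRingHom

theorem back_tmul (A : CommAlgCat.{u} k) (r : R) (a : A) :
    back 𝓗 n A ((Ideal.Quotient.mk _ r) ⊗ₜ a) = Ideal.Quotient.mk _ (str 𝓗 A r * alg 𝓗 A a) := rfl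

theorem back_comp_tq (A : CommAlgCat.{u} k) : (back 𝓗 n A).comp (tq R n A) = (Ideal.Quotient.mk _).comp (eta 𝓗 A) := by
  refine RingHom.ext fun x => ?_
  induction x using TensorProduct.induction_on with
  | zero => simp only [map_zero]
  | add x y hx hy => simp only [map_add, hx, hy]
  | tmul r a =>
    change back 𝓗 n A ((Ideal.Quotient.mk _ r) ⊗ₜ a) = Ideal.Quotient.mk _ (eta 𝓗 A (r ⊗ₜ a))
    rw [back_tmul]
    have : (r ⊗ₜ[k] a : R ⊗[k] A) = (r ⊗ₜ 1) * (1 ⊗ₜ a) := by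
      rw [Algebra.TensorProduct.tmul_mul_tmul, mul_one, one_mul]
    rw [this]
    refine congrArg (Ideal.Quotient.mk _) ?_
    rw [map_mul, eta_includeLeft]
    rfl

theorem back_comp_piN (A : CommAlgCat.{u} k) : (back 𝓗 n A).comp (piN 𝓗 n A) = Ideal.Quotient.mk _ := by
  have hH : HenselianRing ((𝓗.G.obj A).right ⧸ (mG 𝓗 A) ^ n) ((mG 𝓗 A).map (Ideal.Quotient.mk ((mG 𝓗 A) ^ n))) := by
    refine Groth.Agent.S0527.result _ _ fun x hx => ⟨n, ?_⟩
    have h1 := Ideal.pow_mem_pow hx n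
    have h2 : ((mG 𝓗 A).map (Ideal.Quotient.mk ((mG 𝓗 A) ^ n))) ^ n = ⊥ :=
      (Ideal.map_pow _ _ _).symm.trans (Ideal.map_quotient_self _)
    rw [h2] at h1
    exact h1
  refine (isHens 𝓗 A).hom_ext hH ?_ ?_
  · rw [RingHom.comp_assoc, piN_comp_eta, back_comp_tq, ← Ideal.map_map, map_mExt]
  · rw [RingHom.comp_assoc, piN_comp_eta, back_comp_tq]

end K728.PiN
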