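import Groth.Agent.PicLoc.K728.HensRing
import Groth.Prelude.Def_PicLoc
import Mathlib.RingTheory.TensorProduct.Free
import Mathlib.LinearAlgebra.TensorProduct.Quotient

/-!
# Henselized tensor products: the family `G(A) = R ⊗~_k A`

For `𝓗 : PicLoc.HensFamily k R`:

* `eta 𝓗 A : R ⊗ A → G(A)`, `str 𝓗 A : R → G(A)`, `alg 𝓗 A : A → G(A)`, `mapG 𝓗 g : G(A) → G(A')`
* `isHens`, `flat_eta`, `flat_str`, `flat_alg`, `jac`, `isNoetherianRing`
* `mG 𝓗 A = m G(A)`; `exists_alg` (every element of `G(A)` is in the image of `A` modulo `m G(A)`),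
  `mem_mG_alg` (`A → G(A)/m G(A)` injective) : `G(A)/m G(A) = A` (for `k = R/m`)
* `flat_mapG`, `faithfullyFlat_mapG`
* `isPushout_mapG` : `G(A') = G(A) ⊗_A A'` for `A → A'` integral
-/

set_option autoImplicit false
set_option linter.style.haveILetI false
universe u
open CategoryTheory CategoryTheory.Limits TensorProduct

namespace K728.HensFam

open K728.HensRing

variable {k : Type u} [Field k] {R : Type u} [CommRing R] [IsLocalRing R] [Algebra k R]
  (𝓗 : PicLoc.HensFamily k R)

/-- `η_A : R ⊗ A → G(A)`. -/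
noncomputable abbrev eta (A : CommAlgCat.{u} k) : R ⊗[k] A →+* (𝓗.G.obj A).right := (𝓗.η.app A).right.hom

/-- `R → G(A)`. -/
noncomputable abbrev str (A : CommAlgCat.{u} k) : R →+* (𝓗.G.obj A).right := (𝓗.G.obj A).hom.hom

/-- `A → G(A)`. -/
noncomputable abbrev alg (A : CommAlgCat.{u} k) : A →+* (𝓗.G.obj A).right :=
  (eta 𝓗 A).comp (Algebra.TensorProduct.includeRight (R := k) (A := R) (B := A)).toRingHom

/-- `G(A) → G(A')`. -/
noncomputable abbrev mapG {A A' : CommAlgCat.{u} k} (g : A ⟶ A') : (𝓗.G.obj A).right →+* (𝓗.G.obj A').right :=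
  (𝓗.G.map g).right.hom

/-- `R ⊗ A → R ⊗ A'`. -/
noncomputable abbrev tmap (R : Type u) [CommRing R] [Algebra k R] {A A' : CommAlgCat.{u} k} (g : A ⟶ A') :
    R ⊗[k] A →+* R ⊗[k] A' :=
  (Algebra.TensorProduct.map (AlgHom.id R R) g.hom).toRingHom

/-- `m G(A)`. -/
noncomputable abbrev mG (A : CommAlgCat.{u} k) : Ideal (𝓗.G.obj A).right :=
  (IsLocalRing.maximalIdeal R).map (str 𝓗 A)

theorem isHens (A : CommAlgCat.{u} k) : IsHens (PicLoc.mExt k R A) (eta 𝓗 A) := 𝓗.isHens A

theorem eta_comp_includeLeft (A : CommAlgCat.{u} k) :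
    (eta 𝓗 A).comp (Algebra.TensorProduct.includeLeftRingHom : R →+* R ⊗[k] A) = str 𝓗 A :=
  congrArg CommRingCat.Hom.hom (Under.w (𝓗.η.app A))

theorem eta_includeLeft (A : CommAlgCat.{u} k) (r : R) : eta 𝓗 A (r ⊗ₜ 1) = str 𝓗 A r :=
  congr($(eta_comp_includeLeft 𝓗 A) r)

theorem map_mExt (A : CommAlgCat.{u} k) : (PicLoc.mExt k R A).map (eta 𝓗 A) = mG 𝓗 A := by
  rw [Ideal.map_map, eta_comp_includeLeft]

theorem mapG_comp_eta {A A' : CommAlgCat.{u} k} (g : A ⟶ A') :
    (mapG 𝓗 g).comp (eta 𝓗 A) = (eta 𝓗 A').comp (tmap R g) := by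
  have h := congrArg (fun f => CommRingCat.Hom.hom (CommaMorphism.right f)) (𝓗.η.naturality g)
  exact h.symm

theorem mapG_comp_str {A A' : CommAlgCat.{u} k} (g : A ⟶ A') :
    (mapG 𝓗 g).comp (str 𝓗 A) = str 𝓗 A' :=
  congrArg CommRingCat.Hom.hom (Under.w (𝓗.G.map g))

theorem mapG_str {A A' : CommAlgCat.{u} k} (g : A ⟶ A') (r : R) :
    mapG 𝓗 g (str 𝓗 A r) = str 𝓗 A' r := congr($(mapG_comp_str 𝓗 g) r)

omit [IsLocalRing R] in
theorem tmap_comp_includeRight {A A' : CommAlgCat.{u} k} (g : A ⟶ A') :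
    (tmap R g).comp (Algebra.TensorProduct.includeRight (R := k) (A := R) (B := A)).toRingHom =
      (Algebra.TensorProduct.includeRight (R := k) (A := R) (B := A')).toRingHom.comp g.hom.toRingHom := by
  ext a
  simp [tmap]

theorem mapG_comp_alg {A A' : CommAlgCat.{u} k} (g : A ⟶ A') :
    (mapG 𝓗 g).comp (alg 𝓗 A) = (alg 𝓗 A').comp g.hom.toRingHom := by
  rw [← RingHom.comp_assoc, mapG_comp_eta, RingHom.comp_assoc, tmap_comp_includeRight]
  rfl

theorem mapG_alg {A A' : CommAlgCat.{u} k} (g : A ⟶ A') (a : A) :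
    mapG 𝓗 g (alg 𝓗 A a) = alg 𝓗 A' (g.hom a) := congr($(mapG_comp_alg 𝓗 g) a)

theorem map_mG {A A' : CommAlgCat.{u} k} (g : A ⟶ A') : (mG 𝓗 A).map (mapG 𝓗 g) = mG 𝓗 A' := by
  rw [Ideal.map_map, mapG_comp_str]

theorem map_tmap_mExt {A A' : CommAlgCat.{u} k} (g : A ⟶ A') :
    (PicLoc.mExt k R A).map (tmap R g) = PicLoc.mExt k R A' := by
  rw [PicLoc.mExt, PicLoc.mExt, Ideal.map_map]
  congr 1
  ext r
  simp [tmap]

theorem isHens' {A A' : CommAlgCat.{u} k} (g : A ⟶ A') :
    IsHens ((PicLoc.mExt k R A).map (tmap R g)) (eta 𝓗 A') := by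
  rw [map_tmap_mExt]; exact isHens 𝓗 A'

theorem jac (A : CommAlgCat.{u} k) : mG 𝓗 A ≤ Ideal.jacobson ⊥ := by
  rw [← map_mExt]; exact (isHens 𝓗 A).jac

theorem henselian (A : CommAlgCat.{u} k) : HenselianRing (𝓗.G.obj A).right (mG 𝓗 A) := by
  rw [← map_mExt]; exact (isHens 𝓗 A).henselian

theorem flat_eta (A : CommAlgCat.{u} k) : (eta 𝓗 A).Flat := (isHens 𝓗 A).flat

theorem flat_str (A : CommAlgCat.{u} k) : (str 𝓗 A).Flat := by
  rw [← eta_comp_includeLeft]
  refine RingHom.Flat.comp ?_ (flat_eta 𝓗 A)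
  exact RingHom.flat_algebraMap_iff.mpr (inferInstance : Module.Flat R (R ⊗[k] A))

theorem flat_alg (A : CommAlgCat.{u} k) : (alg 𝓗 A).Flat := by
  refine RingHom.Flat.comp ?_ (flat_eta 𝓗 A)
  let _ : Algebra A (R ⊗[k] A) := (Algebra.TensorProduct.includeRight (R := k) (A := R) (B := A)).toRingHom.toAlgebra
  let e : A ⊗[k] R ≃ₗ[A] R ⊗[k] A := 
    { (TensorProduct.comm k A R) with
      map_smul' := fun a x => by
        induction x using TensorProduct.induction_on with
        | zero => simp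
        | tmul b r => 
          change (TensorProduct.comm k A R) ((a * b) ⊗ₜ r) = ((1 : R) ⊗ₜ[k] a) * (TensorProduct.comm k A R (b ⊗ₜ r))
          simp
        | add x y hx hy => 
          rw [smul_add]
          change (TensorProduct.comm k A R) (a • x + a • y) = _
          rw [map_add]
          change _ = a • (TensorProduct.comm k A R (x + y))
          rw [map_add, smul_add]
          exact congrArg₂ (· + ·) hx hy }
  have : Module.Flat A (R ⊗[k] A) := Module.Flat.of_linearEquiv e.symm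
  exact this

theorem isNoetherianRing_tensor [IsNoetherianRing R] (A : CommAlgCat.{u} k) [Algebra.FiniteType k A] :
    IsNoetherianRing (R ⊗[k] A) := by
  have : Algebra.FiniteType R (R ⊗[k] A) := inferInstance
  exact Algebra.FiniteType.isNoetherianRing R _

theorem isNoetherianRing [IsNoetherianRing R] (A : CommAlgCat.{u} k) [Algebra.FiniteType k A] :
    IsNoetherianRing (𝓗.G.obj A).right := by
  have := isNoetherianRing_tensor (R := R) A
  exact (isHens 𝓗 A).isNoetherianRing

/-- The square `A → A'`, `R ⊗ A → R ⊗ A'` is a pushout. -/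
theorem isPushout_tmap (R : Type u) [CommRing R] [Algebra k R] {A A' : CommAlgCat.{u} k} (g : A ⟶ A') :
    IsPushout (CommRingCat.ofHom (Algebra.TensorProduct.includeRight (R := k) (A := R) (B := A)).toRingHom)
      (CommRingCat.ofHom g.hom.toRingHom) (CommRingCat.ofHom (tmap R g))
      (CommRingCat.ofHom (Algebra.TensorProduct.includeRight (R := k) (A := R) (B := A')).toRingHom) := by
  have h1 := (CommRingCat.isPushout_tensorProduct k R A).flip
  have h2 := (CommRingCat.isPushout_tensorProduct k R A').flip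
  have e1 : CommRingCat.ofHom (algebraMap k A) ≫ CommRingCat.ofHom g.hom.toRingHom =
      CommRingCat.ofHom (algebraMap k A') := by
    rw [← CommRingCat.ofHom_comp]
    congr 1
    exact g.hom.comp_algebraMap
  have e2 : CommRingCat.ofHom (Algebra.TensorProduct.includeLeftRingHom : R →+* R ⊗[k] A) ≫
      CommRingCat.ofHom (tmap R g) =
      CommRingCat.ofHom (Algebra.TensorProduct.includeLeftRingHom : R →+* R ⊗[k] A') := by
    rw [← CommRingCat.ofHom_comp]
    congr 1
    refine RingHom.ext fun r => ?_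
    simp [tmap]
  rw [← e1, ← e2] at h2
  refine (IsPushout.of_left h2 ?_ h1).flip
  rw [← CommRingCat.ofHom_comp, ← CommRingCat.ofHom_comp, tmap_comp_includeRight]

/-- Stability under base change for a pushout square of ring maps. -/
theorem of_isPushout_stable {P : ∀ {R S : Type u} [CommRing R] [CommRing S], (R →+* S) → Prop}
    (hP : RingHom.IsStableUnderBaseChange P) {A B C D : Type u} [CommRing A] [CommRing B] [CommRing C] [CommRing D]
    {f : A →+* B} {g : A →+* C} {h : B →+* D} {l : C →+* D}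
    (sq : IsPushout (CommRingCat.ofHom f) (CommRingCat.ofHom g) (CommRingCat.ofHom h) (CommRingCat.ofHom l))
    (hf : P f) : P l := by
  letI : Algebra A B := f.toAlgebra
  letI : Algebra A C := g.toAlgebra
  letI : Algebra B D := h.toAlgebra
  letI : Algebra C D := l.toAlgebra
  letI : Algebra A D := (h.comp f).toAlgebra
  haveI : IsScalarTower A B D := .of_algebraMap_eq' rfl
  haveI : IsScalarTower A C D := .of_algebraMap_eq' (congrArg CommRingCat.Hom.hom sq.w)
  have h5 : Algebra.IsPushout A B C D := CommRingCat.isPushout_iff_isPushout.mp sq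
  exact hP A B C D hf

theorem flat_tmap (R : Type u) [CommRing R] [Algebra k R] {A A' : CommAlgCat.{u} k} (g : A ⟶ A')
    (hg : g.hom.toRingHom.Flat) : (tmap R g).Flat :=
  of_isPushout_stable RingHom.Flat.isStableUnderBaseChange (isPushout_tmap R g).flip hg

theorem faithfullyFlat_tmap (R : Type u) [CommRing R] [Algebra k R] {A A' : CommAlgCat.{u} k} (g : A ⟶ A')
    (hg : g.hom.toRingHom.FaithfullyFlat) : (tmap R g).FaithfullyFlat :=
  of_isPushout_stable RingHom.FaithfullyFlat.isStableUnderBaseChange (isPushout_tmap R g).flip hg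

theorem isIntegral_tmap (R : Type u) [CommRing R] [Algebra k R] {A A' : CommAlgCat.{u} k} (g : A ⟶ A')
    (hg : g.hom.toRingHom.IsIntegral) : (tmap R g).IsIntegral :=
  of_isPushout_stable RingHom.isIntegral_isStableUnderBaseChange (isPushout_tmap R g).flip hg

theorem flat_mapG {A A' : CommAlgCat.{u} k} (g : A ⟶ A') (hg : g.hom.toRingHom.Flat) : (mapG 𝓗 g).Flat :=
  (isHens 𝓗 A).flat_of_flat (isHens' 𝓗 g) (flat_tmap R g hg) (mapG_comp_eta 𝓗 g)

theorem faithfullyFlat_mapG {A A' : CommAlgCat.{u} k} (g : A ⟶ A') (hg : g.hom.toRingHom.FaithfullyFlat) :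
    (mapG 𝓗 g).FaithfullyFlat :=
  (isHens 𝓗 A).faithfullyFlat_of_faithfullyFlat (isHens' 𝓗 g) (faithfullyFlat_tmap R g hg) (mapG_comp_eta 𝓗 g)

/-- `G(A') = G(A) ⊗_A A'` for `A → A'` integral. -/
theorem isPushout_mapG {A A' : CommAlgCat.{u} k} (g : A ⟶ A') (hg : g.hom.toRingHom.IsIntegral) :
    IsPushout (CommRingCat.ofHom (alg 𝓗 A)) (CommRingCat.ofHom g.hom.toRingHom) (CommRingCat.ofHom (mapG 𝓗 g))
      (CommRingCat.ofHom (alg 𝓗 A')) := by
  have h1 := (isHens 𝓗 A).isPushout_of_isIntegral (isHens' 𝓗 g) (isIntegral_tmap R g hg) (mapG_comp_eta 𝓗 g)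
  exact (isPushout_tmap R g).paste_horiz h1

/-- For `A → A'` surjective, so is `G(A) → G(A')`. -/
theorem surjective_mapG {A A' : CommAlgCat.{u} k} (g : A ⟶ A') (hg : Function.Surjective g.hom) :
    Function.Surjective (mapG 𝓗 g) := by
  have h1 := isPushout_mapG 𝓗 g (RingHom.isIntegral_of_surjective _ hg)
  exact of_isPushout_stable RingHom.surjective_isStableUnderBaseChange h1.flip hg

/-- For `A → A'` surjective, the kernel of `G(A) → G(A')` is generated by the kernel of `A → A'`. -/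
theorem ker_mapG {A A' : CommAlgCat.{u} k} (g : A ⟶ A') (hg : Function.Surjective g.hom) :
    RingHom.ker (mapG 𝓗 g) = (RingHom.ker g.hom.toRingHom).map (alg 𝓗 A) := by
  refine le_antisymm ?_ ?_
  · have h1 := isPushout_mapG 𝓗 g (RingHom.isIntegral_of_surjective _ hg)
    set K : Ideal (𝓗.G.obj A).right := (RingHom.ker g.hom.toRingHom).map (alg 𝓗 A) with hK
    let t : A' →+* (𝓗.G.obj A).right ⧸ K := RingHom.liftOfSurjective g.hom.toRingHom hg
      ⟨(Ideal.Quotient.mk K).comp (alg 𝓗 A), fun a ha => by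
        rw [RingHom.mem_ker, RingHom.comp_apply, Ideal.Quotient.eq_zero_iff_mem]
        exact Ideal.mem_map_of_mem _ ha⟩
    have ht : t.comp g.hom.toRingHom = (Ideal.Quotient.mk K).comp (alg 𝓗 A) :=
      RingHom.liftOfSurjective_comp _ _ _
    let d : (𝓗.G.obj A').right ⟶ CommRingCat.of ((𝓗.G.obj A).right ⧸ K) :=
      h1.desc (CommRingCat.ofHom (Ideal.Quotient.mk K)) (CommRingCat.ofHom t) (by
        rw [← CommRingCat.ofHom_comp, ← CommRingCat.ofHom_comp, ht])
    have hd : d.hom.comp (mapG 𝓗 g) = Ideal.Quotient.mk K :=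
      congrArg CommRingCat.Hom.hom (h1.inl_desc _ _ _)
    intro x hx
    have h2 : d.hom (mapG 𝓗 g x) = 0 := by
      rw [RingHom.mem_ker] at hx
      rw [hx, map_zero]
    have h3 : Ideal.Quotient.mk K x = 0 := by
      rw [← hd]; exact h2
    rwa [Ideal.Quotient.eq_zero_iff_mem] at h3
  · rw [Ideal.map_le_iff_le_comap]
    intro a ha
    rw [Ideal.mem_comap, RingHom.mem_ker, mapG_alg]
    rw [RingHom.mem_ker] at ha
    change alg 𝓗 A' (g.hom.toRingHom a) = 0
    rw [ha, map_zero]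

end K728.HensFam
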