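import Groth.Agent.Pic13.H126.D2FF
import Groth.Agent.Pic13.H126.ThickFF
import Groth.Agent.Picfga.LineFam
import Groth.Agent.CurvesA.FlatH0

/-!
# Lifting generators from infinitesimal neighbourhoods, uniformly in flat base changes
-/

set_option autoImplicit false
set_option linter.style.haveILetI false
universe u

open CategoryTheory CategoryTheory.Limits AlgebraicGeometry Opposite TopologicalSpace

namespace K728.KeyLift

open Groth.Agent Groth.Agent.Fdesc.LocGen Groth.Agent.FormalB Groth.Agent.FormalB.ModPow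
  Groth.Agent.FormalB.ModPowAff Groth.Agent.Pic13.H126 Groth.Agent.Pic13.H126.D2Gen
  Groth.Agent.Pic13.H126.D2FF

/-- Generation and difference. -/
theorem mem_of_smul_gen {X : Scheme.{u}} {L : X.Modules} {U : X.Opens} {g : Γ(L, U)} (hg : IsGen g)
    (I : Ideal Γ(X, U)) (γ : Γ(X, U)) (h : γ • g ∈ I • (⊤ : Submodule Γ(X, U) Γ(L, U))) : γ ∈ I := by
  have key : ∀ m ∈ I • (⊤ : Submodule Γ(X, U) Γ(L, U)), ∃ b ∈ I, m = b • g := by
    intro m hm
    induction hm using Submodule.smul_induction_on' with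
    | smul r hr n _ =>
      obtain ⟨c, rfl⟩ := hg.exists_eq n
      exact ⟨r * c, Ideal.mul_mem_right _ _ hr, by rw [mul_smul]⟩
    | add x _ y _ hx hy =>
      obtain ⟨b, hb, rfl⟩ := hx
      obtain ⟨c, hc, rfl⟩ := hy
      exact ⟨b + c, Ideal.add_mem _ hb hc, by rw [add_smul]⟩
  obtain ⟨b, hb, hab⟩ := key _ h
  rw [hg.ext hab]
  exact hb

/-- A section in `I^(n)`-torsion does not generate. -/
theorem basicOpen_eq_bot_of_pow {X : Scheme.{u}} {U : X.Opens} (a : Γ(X, U)) {n : ℕ} (h : a ^ n = 0) :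
    X.basicOpen a = ⊥ := by
  rcases Nat.eq_zero_or_pos n with rfl | hn
  · rw [pow_zero] at h
    have : a = 0 := by rw [← mul_one a, h, mul_zero]
    rw [this, Scheme.basicOpen_zero]
  · rw [← X.basicOpen_pow (n := n) a hn, h, Scheme.basicOpen_zero]

variable {A : Type u} [CommRing A] [IsNoetherianRing A] {X : Scheme.{u}}
  [X.Over (Spec (CommRingCat.of A))] [IsProper (X ↘ Spec (CommRingCat.of A))]

/-- **Formal functions**: sections of an invertible module on a high enough infinitesimal neighbourhood lift to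
global sections, up to a section which does not generate at any point. -/
theorem exists_lift (I : Ideal A) {L : X.Modules} (hL : PicF.IsInvertible L) :
    ∃ c : ℕ, ∀ {Y : Scheme.{u}} (j : Y ⟶ X) (q : Y ⟶ Spec (CommRingCat.of (A ⧸ I ^ (c + 1))))
      (_ : IsPullback j q (X ↘ Spec (CommRingCat.of A)) (Spec.map (CommRingCat.ofHom (Ideal.Quotient.mk (I ^ (c + 1))))))
      (t : Γ((Scheme.Modules.pullback j).obj L, j ⁻¹ᵁ ⊤)), ∃ σ : Γ(L, ⊤), ∀ z : Y, ¬ GenAt (t - pullSec j σ) z := by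
  have hcoh : Coh.IsCoh L := ThickFF.isCoh_of_isInvertible hL
  obtain ⟨c, hc⟩ := exists_section_lift I hcoh
  refine ⟨c, fun {Y} j q hj t => ?_⟩
  have hmod := D2Unit.isModPow_unit hj hL
  obtain ⟨e, he, he'⟩ := (isModPow_modPowπ I (c + 1) L).exists_iso hmod
  obtain ⟨σ, hσ⟩ := hc (e.inv.app ⊤ t)
  refine ⟨σ, fun z => ?_⟩
  haveI : IsClosedImmersion (Spec.map (CommRingCat.ofHom (Ideal.Quotient.mk (I ^ (c + 1))))) :=
    IsClosedImmersion.spec_of_surjective _ Ideal.Quotient.mk_surjective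
  haveI : IsClosedImmersion j := MorphismProperty.of_isPullback hj.flip this
  obtain ⟨V, e₀, hxV, he₀⟩ := (isInvertible_iff L).1 hL (j z)
  obtain ⟨_, ⟨U, hU, rfl⟩, hxU, hUV⟩ :=
    X.isBasis_affineOpens.exists_subset_of_mem_open hxV V.isOpen
  have hg : IsGen (res L hUV e₀) := he₀.res _
  obtain ⟨b, hb⟩ := modPowπ_app_surjective I (c + 1) L hcoh.1 hU (res _ le_top (e.inv.app ⊤ t))
  obtain ⟨β, hβ⟩ := hg.exists_eq b
  obtain ⟨α, hα⟩ := hg.exists_eq (res L le_top σ)
  -- `t = b` on `U`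
  have h1 : pullSec j b = res _ (j.preimage_mono (le_top : U ≤ ⊤)) t := by
    have h2 := congrArg (fun z => e.hom.app U z) hb
    have h3 : ∀ z : Γ(L, U), e.hom.app U ((Formal.modPowπ I (c + 1) L).app U z) = pullSec j z := by
      intro z
      change _ = ((Scheme.Modules.pullbackPushforwardAdjunction j).unit.app L).app U z
      rw [← he]; rfl
    have h4 : e.hom.app U (res _ le_top (e.inv.app ⊤ t)) =
        res ((Scheme.Modules.pushforward j).obj ((Scheme.Modules.pullback j).obj L)) (le_top : U ≤ ⊤) t := by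
      rw [app_res]
      congr 1
      have h5 : e.inv ≫ e.hom = 𝟙 _ := e.inv_hom_id
      exact congr(($(h5).app ⊤) t)
    exact ((h3 b).symm.trans h2).trans h4
  have h3 : (Formal.modPowπ I (0 + 1) L).app U b =
      (Formal.modPowπ I (0 + 1) L).app U (res L le_top σ) := by
    have h4 : ((Formal.completion I L).map (homOfLE (Nat.zero_le c)).op).app U
        (res (Formal.modPow I (c + 1) L) (le_top : U ≤ ⊤) (e.inv.app ⊤ t)) =
          (Formal.modPowπ I (0 + 1) L).app U (res L le_top σ) := by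
      refine (app_res (((Formal.completion I L).map (homOfLE (Nat.zero_le c)).op)) le_top _).trans ?_
      refine Eq.trans ?_ (app_res (Formal.modPowπ I (0 + 1) L) le_top σ).symm
      exact congrArg (res (Formal.modPow I (0 + 1) L) (le_top : U ≤ ⊤)) hσ
    have h5 := cπ_map I L (Nat.zero_le c)
    have h6 : ((Formal.completion I L).map (homOfLE (Nat.zero_le c)).op).app U
        ((Formal.modPowπ I (c + 1) L).app U b) = (Formal.modPowπ I (0 + 1) L).app U b :=
      congr(($(h5).app U) b)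
    refine h6.symm.trans (Eq.trans ?_ h4)
    exact congrArg (fun z => ((Formal.completion I L).map (homOfLE (Nat.zero_le c)).op).app U z) hb
  have h4 : β - α ∈ I.map (toΓ A X U) := by
    have h5 : (Formal.modPowπ I (0 + 1) L).app U ((β - α) • res L hUV e₀) = 0 := by
      rw [sub_smul, ← hβ, ← hα]
      refine (map_sub ((Formal.modPowπ I (0 + 1) L).app U).hom _ _).trans ?_
      exact sub_eq_zero.mpr h3
    rw [modPowπ_app_eq_zero_iff I (0 + 1) L hcoh.1 hU, zero_add, pow_one] at h5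
    exact mem_of_smul_gen hg _ _ h5
  have hzU : z ∈ j ⁻¹ᵁ U := hxU
  rw [← genAt_res_iff (j.preimage_mono (le_top : U ≤ ⊤)) _ hzU]
  have h6 : res _ (j.preimage_mono (le_top : U ≤ ⊤)) (t - pullSec j σ) =
      (j.app U (β - α) : Γ(Y, j ⁻¹ᵁ U)) • pullSec j (res L hUV e₀) := by
    rw [map_sub, ← h1, res_pullSec j (le_top : U ≤ ⊤) σ, hα, hβ, pullSec_smul, pullSec_smul, map_sub, sub_smul]
  rw [h6, genAt_smul_gen_iff (hg.pullSec j)]
  have h7 : (j.app U (β - α) : Γ(Y, j ⁻¹ᵁ U)) ^ (c + 1) = 0 := by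
    rw [← map_pow]
    have h8 : (β - α) ^ (c + 1) ∈ (I ^ (c + 1)).map (toΓ A X U) := by
      rw [Ideal.map_pow]
      exact Ideal.pow_mem_pow h4 _
    rw [← D2Unit.ker_app hj hU] at h8
    exact h8
  rw [basicOpen_eq_bot_of_pow _ h7]
  exact fun h => h

end K728.KeyLift

namespace K728.KeyLift

open Groth.Agent Groth.Agent.Fdesc.LocGen Groth.Agent.FormalB Groth.Agent.FormalB.ModPow
  Groth.Agent.FormalB.ModPowAff Groth.Agent.Pic13.H126 Groth.Agent.Pic13.H126.D2Gen
  Groth.Agent.Pic13.H126.D2FF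

section square

variable {X X' Y Y' : Scheme.{u}} {g : X' ⟶ X} {j : Y ⟶ X} {j' : Y' ⟶ X'} {gc : Y' ⟶ Y}

theorem pullSec_congr {f f' : Y ⟶ X} (h : f = f') {M : X.Modules} {U : X.Opens} (m : Γ(M, U)) :
    ((Scheme.Modules.pullbackCongr h).hom.app M).app (f ⁻¹ᵁ U) (pullSec f m) =
      res _ (le_of_eq (by rw [h])) (pullSec f' m) := by
  subst h
  have h1 : (Scheme.Modules.pullbackCongr (rfl : f = f)).hom = 𝟙 _ := rfl
  rw [h1, res_refl]
  rfl

theorem isPushout_quot {A B : Type u} [CommRing A] [CommRing B] (φ : A →+* B) (I : Ideal A) :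
    IsPushout (CommRingCat.ofHom φ) (CommRingCat.ofHom (Ideal.Quotient.mk I))
      (CommRingCat.ofHom (Ideal.Quotient.mk (I.map φ)))
      (CommRingCat.ofHom (Ideal.quotientMap (I.map φ) φ Ideal.le_comap_map)) := by
  refine ⟨⟨by ext x; rfl⟩, ⟨PushoutCocone.IsColimit.mk _ (fun s => CommRingCat.ofHom
    (Ideal.Quotient.lift (I.map φ) s.inl.hom ?_)) ?_ ?_ ?_⟩⟩
  · intro b hb
    have h1 : I.map φ ≤ RingHom.ker s.inl.hom := by
      rw [Ideal.map_le_iff_le_comap]
      intro a ha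
      have h2 := congr($(s.condition) a)
      change s.inl.hom (φ a) = s.inr.hom (Ideal.Quotient.mk I a) at h2
      rw [Ideal.mem_comap, RingHom.mem_ker, h2, Ideal.Quotient.eq_zero_iff_mem.mpr ha, map_zero]
    exact h1 hb
  · intro s
    ext b
    rfl
  · intro s
    ext a
    exact congr($(s.condition) a)
  · intro s m h1 h2
    ext b
    exact congr($(h1) b)

/-- The comparison `g_c^* j^* L ≅ j'^* g^* L`. -/
noncomputable def theta (w : gc ≫ j = j' ≫ g) (L : X.Modules) :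
    (Scheme.Modules.pullback gc).obj ((Scheme.Modules.pullback j).obj L) ≅
      (Scheme.Modules.pullback j').obj ((Scheme.Modules.pullback g).obj L) :=
  (Scheme.Modules.pullbackComp gc j).app L ≪≫ (Scheme.Modules.pullbackCongr w).app L ≪≫
    (Scheme.Modules.pullbackComp j' g).symm.app L

theorem theta_pullSec (w : gc ≫ j = j' ≫ g) (L : X.Modules) {U : X.Opens} (s : Γ(L, U)) :
    (theta w L).hom.app (gc ⁻¹ᵁ (j ⁻¹ᵁ U)) (pullSec gc (pullSec j s)) =
      res _ (le_of_eq (by rw [← Scheme.Hom.comp_preimage, ← Scheme.Hom.comp_preimage, w]))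
        (pullSec j' (pullSec g s)) := by
  have h1 := pullSec_comp' gc j s
  have h2 := pullSec_congr w s
  have h3 := pullSec_comp j' g s
  change ((Scheme.Modules.pullbackComp j' g).inv.app L).app _
    (((Scheme.Modules.pullbackCongr w).hom.app L).app _
      (((Scheme.Modules.pullbackComp gc j).hom.app L).app _ (pullSec gc (pullSec j s)))) = _
  rw [h1]
  have h4 := app_res ((Scheme.Modules.pullbackComp j' g).inv.app L)
    (show (gc ≫ j) ⁻¹ᵁ U ≤ (j' ≫ g) ⁻¹ᵁ U from le_of_eq (by rw [w])) (pullSec (j' ≫ g) s)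
  refine (congrArg (fun z => ((Scheme.Modules.pullbackComp j' g).inv.app L).app ((gc ≫ j) ⁻¹ᵁ U) z) h2).trans ?_
  refine h4.trans ?_
  exact congrArg _ h3

end square

section main

variable {A : Type u} [CommRing A] [IsNoetherianRing A] {X : Scheme.{u}}
  [X.Over (Spec (CommRingCat.of A))] [IsProper (X ↘ Spec (CommRingCat.of A))]

/-- Uniform version in flat base changes. -/
theorem exists_gen_on (I : Ideal A) {L : X.Modules} (hL : PicF.IsInvertible L) :
    ∃ c : ℕ, ∀ {X' Y Y' : Scheme.{u}} {B : Type u} [CommRing B] (φ : A →+* B) (_ : φ.Flat)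
      (g : X' ⟶ X) (q : X' ⟶ Spec (CommRingCat.of B)) (_ : IsPullback g q (X ↘ Spec (CommRingCat.of A)) (Spec.map (CommRingCat.ofHom φ)))
      (j : Y ⟶ X) (qY : Y ⟶ Spec (CommRingCat.of (A ⧸ I ^ (c + 1))))
      (_ : IsPullback j qY (X ↘ Spec (CommRingCat.of A)) (Spec.map (CommRingCat.ofHom (Ideal.Quotient.mk (I ^ (c + 1))))))
      (gc : Y' ⟶ Y) (j' : Y' ⟶ X') (_ : IsPullback gc (j' ≫ q) (j ≫ (X ↘ Spec (CommRingCat.of A))) (Spec.map (CommRingCat.ofHom φ)))
      (w : gc ≫ j = j' ≫ g)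
      (n : Γ((Scheme.Modules.pullback j').obj ((Scheme.Modules.pullback g).obj L), ⊤)),
      ∃ σ : Γ((Scheme.Modules.pullback g).obj L, ⊤), ∀ z : Y', GenAt n z → GenAt σ (j' z) := by
  obtain ⟨c, hc⟩ := exists_lift I hL
  refine ⟨c, fun {X' Y Y' B} _ φ hφ g q H j qY hj gc j' Hc w n => ?_⟩
  have hLc := isInvertible_pullback j hL
  have hL' := isInvertible_pullback g hL
  have hN := isInvertible_pullback j' hL'
  let V : Y'.Opens := gc ⁻¹ᵁ (j ⁻¹ᵁ ⊤)
  have hV : V ≤ j' ⁻¹ᵁ (g ⁻¹ᵁ ⊤) := le_of_eq (by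
    change gc ⁻¹ᵁ (j ⁻¹ᵁ ⊤) = _
    rw [← Scheme.Hom.comp_preimage, ← Scheme.Hom.comp_preimage, w])
  -- the property
  let P : Γ((Scheme.Modules.pullback gc).obj ((Scheme.Modules.pullback j).obj L), V) → Prop := fun s =>
    ∃ σ : Γ((Scheme.Modules.pullback g).obj L, g ⁻¹ᵁ ⊤), ∀ z : Y',
      ¬ GenAt ((theta w L).hom.app V s - res _ hV (pullSec j' σ)) z
  have hP : ∀ s, P s := by
    haveI : Flat (Spec.map (CommRingCat.ofHom φ)) := by
      rw [HasRingHomProperty.Spec_iff (P := @Flat)]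
      exact hφ
    haveI : IsClosedImmersion (Spec.map (CommRingCat.ofHom (Ideal.Quotient.mk (I ^ (c + 1))))) :=
      IsClosedImmersion.spec_of_surjective _ Ideal.Quotient.mk_surjective
    haveI : IsClosedImmersion j := MorphismProperty.of_isPullback hj.flip this
    haveI : CompactSpace X := (quasiCompact_iff_compactSpace (f := X ↘ Spec (CommRingCat.of A))).mp inferInstance
    haveI : QuasiSeparatedSpace X := (quasiSeparated_iff_quasiSeparatedSpace (f := X ↘ Spec (CommRingCat.of A))).mp inferInstance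
    haveI : CompactSpace Y := (quasiCompact_iff_compactSpace (f := j ≫ X ↘ Spec (CommRingCat.of A))).mp inferInstance
    haveI : QuasiSeparatedSpace Y := (quasiSeparated_iff_quasiSeparatedSpace (f := j ≫ X ↘ Spec (CommRingCat.of A))).mp inferInstance
    have hb := CurvesA.FlatH0.isBaseChange_of_qcqs (j ≫ X ↘ Spec (CommRingCat.of A)) (j' ≫ q)
      (Spec.map (CommRingCat.ofHom φ)) gc Hc ((Scheme.Modules.pullback j).obj L)
      (Ega2.QCohLocal.isQCoh_of_isInvertible hLc) (W := j ⁻¹ᵁ ⊤) (V := V) isCompact_univ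
      (by exact isQuasiSeparated_univ) rfl
    intro s
    letI i0 := CurvesA.FlatH0.baseAlg (Spec.map (CommRingCat.ofHom φ))
    letI i1 : ∀ U : Y.Opens, Module Γ(Spec (CommRingCat.of A), ⊤) Γ((Scheme.Modules.pullback j).obj L, U) :=
      fun U => CurvesA.FlatH0.modX (j ≫ X ↘ Spec (CommRingCat.of A)) _ U
    letI i2 : ∀ U : Y'.Opens, Module Γ(Spec (CommRingCat.of B), ⊤) Γ((Scheme.Modules.pullback gc).obj ((Scheme.Modules.pullback j).obj L), U) :=
      fun U => CurvesA.FlatH0.modX (j' ≫ q) _ U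
    letI i3 : ∀ U : Y'.Opens, Module Γ(Spec (CommRingCat.of A), ⊤) Γ((Scheme.Modules.pullback gc).obj ((Scheme.Modules.pullback j).obj L), U) :=
      fun U => CurvesA.FlatH0.modX' (j' ≫ q) (Spec.map (CommRingCat.ofHom φ)) _ U
    haveI i4 : ∀ U : Y'.Opens, IsScalarTower Γ(Spec (CommRingCat.of A), ⊤) Γ(Spec (CommRingCat.of B), ⊤)
        Γ((Scheme.Modules.pullback gc).obj ((Scheme.Modules.pullback j).obj L), U) :=
      fun U => CurvesA.FlatH0.tower' (j' ≫ q) (Spec.map (CommRingCat.ofHom φ)) _ U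
    refine hb.inductionOn s P ?_ ?_ ?_ ?_
    · refine ⟨0, fun z => ?_⟩
      have h1 : pullSec j' (0 : Γ((Scheme.Modules.pullback g).obj L, g ⁻¹ᵁ ⊤)) = 0 :=
        map_zero (((Scheme.Modules.pullbackPushforwardAdjunction j').unit.app _).app _).hom
      have h2 : (theta w L).hom.app V 0 = 0 := map_zero ((theta w L).hom.app V).hom
      rw [h1, h2, map_zero, sub_zero]
      intro h
      exact not_genAt_zero hN h.mem h
    · intro m
      obtain ⟨σ, hσ⟩ := hc j qY hj m
      refine ⟨pullSec g σ, fun z => ?_⟩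
      have h1 := theta_pullSec w L σ
      have h2 : CurvesA.FlatH0.secB (j ≫ X ↘ Spec (CommRingCat.of A)) (j' ≫ q)
          (Spec.map (CommRingCat.ofHom φ)) gc Hc.w ((Scheme.Modules.pullback j).obj L) (le_refl V) m = pullSec gc m :=
        res_refl _ _
      rw [h2]
      have h3 : (theta w L).hom.app V (pullSec gc m) - res _ hV (pullSec j' (pullSec g σ)) =
          (theta w L).hom.app V (pullSec gc (m - pullSec j σ)) := by
        have h4 : pullSec gc (m - pullSec j σ) = pullSec gc m - pullSec gc (pullSec j σ) :=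
          map_sub (((Scheme.Modules.pullbackPushforwardAdjunction gc).unit.app _).app _).hom _ _
        rw [h4]
        refine Eq.trans ?_ (map_sub ((theta w L).hom.app V).hom _ _).symm
        congr 1
        exact h1.symm
      rw [h3, genAt_app_iff]
      intro h
      have h5 : gc z ∈ j ⁻¹ᵁ (⊤ : X.Opens) := h.mem
      rw [genAt_pullSec_iff gc hLc _ h5] at h
      exact hσ _ h
    · rintro b s ⟨σ, hσ⟩
      let a : Γ(X', g ⁻¹ᵁ ⊤) := q.appLE ⊤ (g ⁻¹ᵁ ⊤) le_top b
      refine ⟨a • σ, fun z => ?_⟩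
      let β : Γ(Y', V) := (j' ≫ q).appLE ⊤ V (CurvesA.FlatH0.le_pt _ V) b
      have h1 : b • s = β • s := rfl
      have h2 : (theta w L).hom.app V (β • s) = β • (theta w L).hom.app V s :=
        Scheme.Modules.Hom.app_smul _ _ _
      have h3 : ores hV (j'.app (g ⁻¹ᵁ ⊤) a) = β := by
        have h5 : q.appLE ⊤ (g ⁻¹ᵁ ⊤) le_top ≫ j'.appLE (g ⁻¹ᵁ ⊤) V hV = (j' ≫ q).appLE ⊤ V (CurvesA.FlatH0.le_pt _ V) :=
          Scheme.Hom.appLE_comp_appLE _ _ _ _ _ _ _
        exact congr($(h5) b)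
      have h4 : res _ hV (pullSec j' (a • σ)) = β • res _ hV (pullSec j' σ) := by
        rw [pullSec_smul, res_smul, h3]
      rw [h1, h2, h4, ← smul_sub]
      intro h
      have hz : z ∈ V := h.mem
      exact hσ z ((genAt_smul_iff hN _ _ hz).mp h).2
    · rintro s s' ⟨σ, hσ⟩ ⟨σ', hσ'⟩
      refine ⟨σ + σ', fun z => ?_⟩
      have h1 : (theta w L).hom.app V (s + s') = (theta w L).hom.app V s + (theta w L).hom.app V s' :=
        map_add ((theta w L).hom.app V).hom _ _
      rw [h1, pullSec_add, map_add, add_sub_add_comm]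
      intro h
      exact not_genAt_add hN h.mem (hσ z) (hσ' z) h
  obtain ⟨σ, hσ⟩ := hP ((theta w L).inv.app V (res _ (le_top : V ≤ ⊤) n))
  refine ⟨res _ (le_of_eq rfl : (⊤ : X'.Opens) ≤ g ⁻¹ᵁ ⊤) σ, fun z hz => ?_⟩
  have hzV : z ∈ V := trivial
  have h1 : (theta w L).hom.app V ((theta w L).inv.app V (res _ (le_top : V ≤ ⊤) n)) = res _ (le_top : V ≤ ⊤) n := by
    have h5 : (theta w L).inv ≫ (theta w L).hom = 𝟙 _ := (theta w L).inv_hom_id
    exact congr(($(h5).app V) (res _ (le_top : V ≤ ⊤) n))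
  have h2 := hσ z
  rw [h1] at h2
  have h3 : GenAt (res _ (le_top : V ≤ ⊤) n) z := (genAt_res_iff _ _ hzV).mpr hz
  have h4 : ¬ GenAt (-(res _ (le_top : V ≤ ⊤) n - res _ hV (pullSec j' σ))) z := by
    intro h5
    apply h2
    have h6 := (genAt_smul_iff hN (-1 : Γ(Y', V)) _ hzV).2
      ⟨(isUnit_iff_le_basicOpen _).1 (isUnit_one.neg) hzV, h5⟩
    simpa using h6
  have h5 := h3.add h4
  have h6 : res _ (le_top : V ≤ ⊤) n + -(res _ (le_top : V ≤ ⊤) n - res _ hV (pullSec j' σ)) = res _ hV (pullSec j' σ) := by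
    abel
  rw [h6, genAt_res_iff hV _ hzV] at h5
  have h7 : j' z ∈ g ⁻¹ᵁ (⊤ : X.Opens) := trivial
  rw [genAt_pullSec_iff j' hL' _ h7] at h5
  exact (genAt_res_iff (le_of_eq rfl : (⊤ : X'.Opens) ≤ g ⁻¹ᵁ ⊤) σ (show j' z ∈ (⊤ : X'.Opens) from trivial)).mpr h5

omit [IsNoetherianRing A] [IsProper (X ↘ Spec (CommRingCat.of A))] in
/-- The pasted square. -/
theorem isPullback_paste {K : Ideal A} {X' Y Y' : Scheme.{u}} {B : Type u} [CommRing B] {φ : A →+* B}
    {g : X' ⟶ X} {q : X' ⟶ Spec (CommRingCat.of B)} (H : IsPullback g q (X ↘ Spec (CommRingCat.of A)) (Spec.map (CommRingCat.ofHom φ)))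
    {j : Y ⟶ X} {qY : Y ⟶ Spec (CommRingCat.of (A ⧸ K))}
    (hj : IsPullback j qY (X ↘ Spec (CommRingCat.of A)) (Spec.map (CommRingCat.ofHom (Ideal.Quotient.mk K))))
    {j' : Y' ⟶ X'} {qY' : Y' ⟶ Spec (CommRingCat.of (B ⧸ K.map φ))}
    (hj' : IsPullback j' qY' q (Spec.map (CommRingCat.ofHom (Ideal.Quotient.mk (K.map φ))))) :
    ∃ gc : Y' ⟶ Y, gc ≫ j = j' ≫ g ∧
      IsPullback gc (j' ≫ q) (j ≫ (X ↘ Spec (CommRingCat.of A))) (Spec.map (CommRingCat.ofHom φ)) := by
  let φ' : A ⧸ K →+* B ⧸ K.map φ := Ideal.quotientMap _ φ Ideal.le_comap_map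
  have hsq : IsPullback (Spec.map (CommRingCat.ofHom φ')) (Spec.map (CommRingCat.ofHom (Ideal.Quotient.mk (K.map φ))))
      (Spec.map (CommRingCat.ofHom (Ideal.Quotient.mk K))) (Spec.map (CommRingCat.ofHom φ)) := by
    exact isPullback_SpecMap_of_isPushout _ _ _ _ (isPushout_quot φ K).flip
  -- the big square `Y' → Spec (B/K) → Spec (A/K)` over `X' → Spec B → Spec A`
  have h1 : IsPullback (qY' ≫ Spec.map (CommRingCat.ofHom φ')) j' (Spec.map (CommRingCat.ofHom (Ideal.Quotient.mk K)))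
      (q ≫ Spec.map (CommRingCat.ofHom φ)) := hj'.flip.paste_horiz hsq
  let gc : Y' ⟶ Y := hj.lift (j' ≫ g) (qY' ≫ Spec.map (CommRingCat.ofHom φ')) (by
    rw [Category.assoc, H.w, h1.w])
  have w : gc ≫ j = j' ≫ g := hj.lift_fst _ _ _
  have h2 : gc ≫ qY = qY' ≫ Spec.map (CommRingCat.ofHom φ') := hj.lift_snd _ _ _
  -- `Y' → Y → X` over `X'`
  have h3 : IsPullback gc j' j g := by
    refine IsPullback.of_right (h₁₂ := qY) (h₂₂ := X ↘ Spec (CommRingCat.of A)) (v₁₃ := Spec.map (CommRingCat.ofHom (Ideal.Quotient.mk K))) ?_ w hj.flip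
    rw [h2, H.w]
    exact h1
  exact ⟨gc, w, h3.paste_vert H⟩

omit [IsNoetherianRing A] [X.Over (Spec (CommRingCat.of A))] [IsProper (X ↘ Spec (CommRingCat.of A))] in
/-- An invertible module with a generator is trivial. -/
theorem nonempty_iso_of_isGen {L : X.Modules} {σ : Γ(L, ⊤)} (h : IsGen σ) : Nonempty (L ≅ Coh.structureModule X) := by
  have h1 : IsIso (homOf σ) := by
    rw [isIso_iff_isGen, sec_homOf]
    exact h.res _
  exact ⟨(asIso (homOf σ)).symm⟩

omit [IsNoetherianRing A] [X.Over (Spec (CommRingCat.of A))] [IsProper (X ↘ Spec (CommRingCat.of A))] in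
theorem exists_isGen_of_iso {L : X.Modules} (h : Nonempty (L ≅ Coh.structureModule X)) : ∃ σ : Γ(L, ⊤), IsGen σ := by
  obtain ⟨e⟩ := h
  exact ⟨e.inv.app ⊤ (one ⊤), (isGen_one ⊤).app e.inv⟩

omit [IsNoetherianRing A] [X.Over (Spec (CommRingCat.of A))] [IsProper (X ↘ Spec (CommRingCat.of A))] in
/-- A section of an invertible module on a scheme proper over `Spec B` which generates over `V(K)`, `K` in the Jacobson
radical, is a generator. -/
theorem isGen_of_jacobson {B : Type u} [CommRing B] (q : X ⟶ Spec (CommRingCat.of B)) [IsProper q]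
    {K : Ideal B} (hK : K ≤ Ideal.jacobson ⊥) {Y' : Scheme.{u}} {j' : Y' ⟶ X} {qY' : Y' ⟶ Spec (CommRingCat.of (B ⧸ K))}
    (hj' : IsPullback j' qY' q (Spec.map (CommRingCat.ofHom (Ideal.Quotient.mk K))))
    {L : X.Modules} (σ : Γ(L, ⊤)) (h : ∀ z : Y', GenAt σ (j' z)) : IsGen σ := by
  rw [isGen_iff_forall_genAt]
  by_contra hcon
  push Not at hcon
  obtain ⟨x, -, hx⟩ := hcon
  have hZ : IsClosed ((genOpen σ : Set X)ᶜ) := (genOpen σ).2.isClosed_compl
  have hqZ : IsClosed (q '' ((genOpen σ : Set X)ᶜ)) := q.isClosedMap _ hZ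
  obtain ⟨m, hm, hxm⟩ := Ideal.exists_le_maximal _ (q x : PrimeSpectrum B).2.ne_top
  let y : PrimeSpectrum B := ⟨m, hm.isPrime⟩
  have hy : (q x : PrimeSpectrum B) ⤳ y := (PrimeSpectrum.le_iff_specializes _ _).mp hxm
  have hyZ : (y : Spec (CommRingCat.of B)) ∈ q '' ((genOpen σ : Set X)ᶜ) := hy.mem_closed hqZ ⟨x, hx, rfl⟩
  obtain ⟨x', hx', hqx'⟩ := hyZ
  have hKm : K ≤ m := hK.trans (sInf_le ⟨bot_le, hm⟩)
  have hrange : (y : Spec (CommRingCat.of B)) ∈ Set.range (Spec.map (CommRingCat.ofHom (Ideal.Quotient.mk K))) := by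
    have h1 := range_comap_of_surjective _ (Ideal.Quotient.mk K) Ideal.Quotient.mk_surjective
    have h2 : y ∈ Set.range (PrimeSpectrum.comap (Ideal.Quotient.mk K)) := by
      rw [h1, Ideal.mk_ker]
      exact hKm
    exact h2
  obtain ⟨w, hw⟩ := hrange
  obtain ⟨z, hz, -⟩ := Scheme.exists_preimage_of_isPullback hj' x' w (hqx'.trans hw.symm)
  exact hx' (hz ▸ h z)

/-- **The key lemma.** Let `X` be proper over a Noetherian ring `A`, `I` an ideal of `A`, `L` invertible on `X`.  There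
is `c` such that for every flat `A → B` with `I B` in the Jacobson radical of `B`: if `L` is trivial on
`X ×_A B/I^(c+1) B` then `L` is trivial on `X ×_A B`. -/
theorem exists_trivial (I : Ideal A) {L : X.Modules} (hL : PicF.IsInvertible L) :
    ∃ c : ℕ, ∀ {X' Y' : Scheme.{u}} {B : Type u} [CommRing B] (φ : A →+* B) (_ : φ.Flat)
      (_ : I.map φ ≤ Ideal.jacobson ⊥)
      (g : X' ⟶ X) (q : X' ⟶ Spec (CommRingCat.of B)) (_ : IsPullback g q (X ↘ Spec (CommRingCat.of A)) (Spec.map (CommRingCat.ofHom φ)))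
      (K : Ideal B) (_ : K = (I ^ (c + 1)).map φ)
      (j' : Y' ⟶ X') (qY' : Y' ⟶ Spec (CommRingCat.of (B ⧸ K)))
      (_ : IsPullback j' qY' q (Spec.map (CommRingCat.ofHom (Ideal.Quotient.mk K)))),
      Nonempty ((Scheme.Modules.pullback j').obj ((Scheme.Modules.pullback g).obj L) ≅ Coh.structureModule Y') →
      Nonempty ((Scheme.Modules.pullback g).obj L ≅ Coh.structureModule X') := by
  obtain ⟨c, hc⟩ := exists_gen_on I hL
  refine ⟨c, fun {X' Y' B} _ φ hφ hI g q H K hK j' qY' hj' ht => ?_⟩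
  subst hK
  obtain ⟨n, hn⟩ := exists_isGen_of_iso ht
  obtain ⟨gc, w, Hc⟩ := isPullback_paste (K := I ^ (c + 1)) H (IsPullback.of_hasPullback _ _) hj'
  obtain ⟨σ, hσ⟩ := hc φ hφ g q H _ _ (IsPullback.of_hasPullback _ _) gc j' Hc w n
  haveI : IsProper q := MorphismProperty.of_isPullback H ‹_›
  refine nonempty_iso_of_isGen (isGen_of_jacobson q (K := (I ^ (c + 1)).map φ) ?_ hj' σ fun z =>
    hσ z (genAt_of_isGen hn trivial))
  rw [Ideal.map_pow]
  exact (Ideal.pow_le_self (Nat.succ_ne_zero c)).trans hI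

end main

end K728.KeyLift
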