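import Groth.Agent.Etalg.PairHens2
import Groth.Agent.S0526
import Groth.Agent.S1958
import Groth.Agent.S1994
import Mathlib.Algebra.Category.Ring.Constructions
import Mathlib.RingTheory.Flat.FaithfullyFlat.Algebra
import Mathlib.RingTheory.RingHom.Flat
import Mathlib.RingTheory.RingHom.FaithfullyFlat

/-!
# Henselizations of pairs: ring homomorphism form, base change

`IsHens I φ` : `φ : A →+* B` is a henselization of the pair `(A, I)` (`Hens2.IsPairHenselization` with the
algebra structure given by `φ`).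

* `IsHens.flat`, `IsHens.quot_bijective`, `IsHens.jac`, `IsHens.isNoetherianRing`
* `IsHens.of_isPushout` : the henselization `B₁` of `(A₁, I A₁)` is a henselization of the base change `B₀ ⊗_{A₀} A₁`
* `IsHens.flat_of_flat`, `IsHens.faithfullyFlat_of_faithfullyFlat`
* `IsHens.isPushout_of_isIntegral` : for `A₀ → A₁` integral, `B₁ = B₀ ⊗_{A₀} A₁`
-/

set_option autoImplicit false
set_option linter.style.haveILetI false
universe u
open CategoryTheory CategoryTheory.Limits

namespace K728.HensRing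

/-- `φ : A → B` is a henselization of the pair `(A, I)`. -/
def IsHens {A B : Type u} [CommRing A] [CommRing B] (I : Ideal A) (φ : A →+* B) : Prop :=
  @Hens2.IsPairHenselization A _ I B _ φ.toAlgebra

namespace IsHens

section basic

variable {A B : Type u} [CommRing A] [CommRing B] {I : Ideal A} {φ : A →+* B}

theorem henselian (h : IsHens I φ) : HenselianRing B (I.map φ) := h.1

theorem existsUnique_lift (h : IsHens I φ) {C : Type u} [CommRing C] {J : Ideal C}
    (hC : HenselianRing C J) (f : A →+* C) (hf : I.map f ≤ J) : ∃! g : B →+* C, g.comp φ = f :=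
  h.2 C J f hC hf

/-- Two ring maps out of a henselization which agree on `A` and send `I` into `J` with `(C, J)` henselian agree. -/
theorem hom_ext (h : IsHens I φ) {C : Type u} [CommRing C] {J : Ideal C} (hC : HenselianRing C J)
    {g g' : B →+* C} (hg : I.map (g.comp φ) ≤ J) (e : g.comp φ = g'.comp φ) : g = g' :=
  (h.existsUnique_lift hC (g.comp φ) hg).unique rfl e.symm

theorem flat (h : IsHens I φ) : φ.Flat := by
  letI := φ.toAlgebra
  exact (Groth.Agent.S1958.result A I B h).1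

theorem quot_bijective (h : IsHens I φ) (n : ℕ) :
    Function.Bijective (Ideal.quotientMap ((I ^ n).map φ) φ Ideal.le_comap_map) := by
  letI := φ.toAlgebra
  exact (Groth.Agent.S1958.result A I B h).2 n

theorem quot_bijective_one (h : IsHens I φ) :
    Function.Bijective (Ideal.quotientMap (I.map φ) φ Ideal.le_comap_map) := by
  letI := φ.toAlgebra
  exact Groth.Agent.Etalg.PairHens2.quot_bijective B h

theorem jac (h : IsHens I φ) : I.map φ ≤ Ideal.jacobson ⊥ := h.henselian.jac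

theorem isNoetherianRing [IsNoetherianRing A] (h : IsHens I φ) : IsNoetherianRing B := by
  letI := φ.toAlgebra
  exact (Groth.Agent.S1994.result A I B h).1

/-- Every element of `B` is congruent to one of `A` modulo `I B`. -/
theorem exists_sub_mem (h : IsHens I φ) (b : B) : ∃ a : A, b - φ a ∈ I.map φ := by
  obtain ⟨x, hx⟩ := h.quot_bijective_one.2 (Ideal.Quotient.mk _ b)
  obtain ⟨a, rfl⟩ := Ideal.Quotient.mk_surjective x
  refine ⟨a, ?_⟩
  rw [Ideal.quotientMap_mk] at hx
  rw [← Ideal.Quotient.eq]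
  exact hx.symm

theorem mem_pow_of_apply_mem (h : IsHens I φ) {n : ℕ} {a : A} (ha : φ a ∈ (I ^ n).map φ) : a ∈ I ^ n := by
  have h1 := (h.quot_bijective n).1
  rw [injective_iff_map_eq_zero] at h1
  have h2 := h1 (Ideal.Quotient.mk _ a) (by
    rw [Ideal.quotientMap_mk, Ideal.Quotient.eq_zero_iff_mem]
    exact ha)
  rwa [Ideal.Quotient.eq_zero_iff_mem] at h2

theorem mem_of_apply_mem (h : IsHens I φ) {a : A} (ha : φ a ∈ I.map φ) : a ∈ I := by
  have := h.mem_pow_of_apply_mem (n := 1) (a := a) (by rwa [pow_one])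
  rwa [pow_one] at this

theorem comap_map_eq_self (h : IsHens I φ) {J : Ideal A} (hJ : I ≤ J) : (J.map φ).comap φ = J := by
  refine le_antisymm ?_ Ideal.le_comap_map
  have key : ∀ y ∈ J.map φ, ∃ j ∈ J, y - φ j ∈ I.map φ := by
    intro y hy
    refine Submodule.span_induction (p := fun y _ => ∃ j ∈ J, y - φ j ∈ I.map φ) ?_ ?_ ?_ ?_ hy
    · rintro _ ⟨j, hj, rfl⟩
      exact ⟨j, hj, by rw [sub_self]; exact zero_mem _⟩
    · exact ⟨0, zero_mem _, by rw [map_zero, sub_self]; exact zero_mem _⟩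
    · rintro x y _ _ ⟨j, hj, h1⟩ ⟨j', hj', h2⟩
      refine ⟨j + j', add_mem hj hj', ?_⟩
      rw [map_add, add_sub_add_comm]
      exact add_mem h1 h2
    · rintro b x _ ⟨j, hj, h1⟩
      obtain ⟨c, hc⟩ := h.exists_sub_mem b
      refine ⟨c * j, Ideal.mul_mem_left _ _ hj, ?_⟩
      have : b • x - φ (c * j) = b * (x - φ j) + (b - φ c) * φ j := by
        rw [map_mul, smul_eq_mul]; ring
      rw [this]
      exact add_mem (Ideal.mul_mem_left _ _ h1) (Ideal.mul_mem_right _ _ hc)
  intro x hx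
  obtain ⟨j, hj, h1⟩ := key _ hx
  rw [← map_sub] at h1
  have h2 := add_mem (hJ (h.mem_of_apply_mem h1)) hj
  rwa [sub_add_cancel] at h2

theorem map_comap_eq_self (h : IsHens I φ) {K : Ideal B} (hK : I.map φ ≤ K) : (K.comap φ).map φ = K := by
  refine le_antisymm Ideal.map_comap_le ?_
  intro y hy
  obtain ⟨a, ha⟩ := h.exists_sub_mem y
  have h1 : I ≤ K.comap φ := Ideal.map_le_iff_le_comap.mp hK
  have h2 : φ a ∈ K := by
    have := sub_mem hy (hK ha)
    rwa [sub_sub_cancel] at this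
  have h3 : y = (y - φ a) + φ a := by ring
  rw [h3]
  exact add_mem (Ideal.map_mono h1 ha) (Ideal.mem_map_of_mem φ h2)

end basic

section baseChange

variable {A₀ A₁ B₀ B₁ P : Type u} [CommRing A₀] [CommRing A₁] [CommRing B₀] [CommRing B₁] [CommRing P]
  {I : Ideal A₀} {φ₀ : A₀ →+* B₀} {a : A₀ →+* A₁} {φ₁ : A₁ →+* B₁}

/-- The henselization of `(A₁, I A₁)` is a henselization of the base change `P = B₀ ⊗_{A₀} A₁` of a henselization
`B₀` of `(A₀, I)`. -/
theorem of_isPushout (h₀ : IsHens I φ₀) (h₁ : IsHens (I.map a) φ₁) {p₀ : B₀ →+* P} {p₁ : A₁ →+* P}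
    (hP : IsPushout (CommRingCat.ofHom φ₀) (CommRingCat.ofHom a) (CommRingCat.ofHom p₀)
      (CommRingCat.ofHom p₁)) {c : P →+* B₁} (hc : c.comp p₁ = φ₁) :
    IsHens (I.map (p₁.comp a)) c := by
  have hw : p₀.comp φ₀ = p₁.comp a := congrArg CommRingCat.Hom.hom hP.w
  refine ⟨?_, ?_⟩
  · have := h₁.henselian
    rw [Ideal.map_map, ← hc, RingHom.comp_assoc, ← Ideal.map_map] at this
    exact this
  · intro C _ J f hC hf
    change Ideal.map f (I.map (p₁.comp a)) ≤ J at hf
    rw [Ideal.map_map] at hf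
    obtain ⟨g, hg, hu⟩ := h₁.existsUnique_lift hC (f.comp p₁) (by
      rw [Ideal.map_map]; exact hf)
    refine ⟨g, ?_, ?_⟩
    · change g.comp c = f
      have : CommRingCat.ofHom (g.comp c) = CommRingCat.ofHom f := by
        refine hP.hom_ext ?_ ?_
        · rw [← CommRingCat.ofHom_comp, ← CommRingCat.ofHom_comp]
          congr 1
          have key : ((g.comp c).comp p₀).comp φ₀ = (f.comp p₀).comp φ₀ := by
            calc ((g.comp c).comp p₀).comp φ₀ = g.comp (c.comp (p₀.comp φ₀)) := rfl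
              _ = (g.comp (c.comp p₁)).comp a := by rw [hw]; rfl
              _ = (f.comp p₁).comp a := by rw [hc, hg]
              _ = f.comp (p₀.comp φ₀) := by rw [hw]; rfl
          refine h₀.hom_ext hC (J := J) ?_ key
          rw [key, RingHom.comp_assoc, hw]
          exact hf
        · rw [← CommRingCat.ofHom_comp, ← CommRingCat.ofHom_comp]
          congr 1
          rw [RingHom.comp_assoc, hc, hg]
      exact congrArg CommRingCat.Hom.hom this
    · intro g' hg'
      change g'.comp c = f at hg'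
      refine hu g' ?_
      change g'.comp φ₁ = f.comp p₁
      rw [← hc, ← RingHom.comp_assoc, hg']

/-- If `A₀ → A₁` is flat then so is the map of henselizations. -/
theorem flat_of_flat (h₀ : IsHens I φ₀) (h₁ : IsHens (I.map a) φ₁) (ha : a.Flat) {b : B₀ →+* B₁}
    (hb : b.comp φ₀ = φ₁.comp a) : b.Flat := by
  let P : CommRingCat.{u} := pushout (CommRingCat.ofHom φ₀) (CommRingCat.ofHom a)
  let p₀ : CommRingCat.of B₀ ⟶ P := pushout.inl (CommRingCat.ofHom φ₀) (CommRingCat.ofHom a)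
  let p₁ : CommRingCat.of A₁ ⟶ P := pushout.inr (CommRingCat.ofHom φ₀) (CommRingCat.ofHom a)
  have hP : IsPushout (CommRingCat.ofHom φ₀) (CommRingCat.ofHom a) p₀ p₁ := IsPushout.of_hasPushout _ _
  let c : P ⟶ CommRingCat.of B₁ := hP.desc (CommRingCat.ofHom b) (CommRingCat.ofHom φ₁) (by
    rw [← CommRingCat.ofHom_comp, ← CommRingCat.ofHom_comp, hb])
  have hc0 : c.hom.comp p₀.hom = b := congrArg CommRingCat.Hom.hom (hP.inl_desc _ _ _)
  have hc1 : c.hom.comp p₁.hom = φ₁ := congrArg CommRingCat.Hom.hom (hP.inr_desc _ _ _)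
  have h2 : IsHens (I.map (p₁.hom.comp a)) c.hom :=
    of_isPushout (p₀ := p₀.hom) (p₁ := p₁.hom) h₀ h₁ hP hc1
  have h3 : p₀.hom.Flat := by
    have := hP.flip
    have h4 : RingHom.IsStableUnderBaseChange RingHom.Flat := RingHom.Flat.isStableUnderBaseChange
    letI : Algebra A₀ B₀ := φ₀.toAlgebra
    letI : Algebra A₀ A₁ := a.toAlgebra
    letI : Algebra B₀ P := p₀.hom.toAlgebra
    letI : Algebra A₁ P := p₁.hom.toAlgebra
    letI : Algebra A₀ P := (p₁.hom.comp a).toAlgebra
    haveI : IsScalarTower A₀ A₁ P := .of_algebraMap_eq' rfl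
    haveI : IsScalarTower A₀ B₀ P := .of_algebraMap_eq' (congrArg CommRingCat.Hom.hom hP.w).symm
    have h5 : Algebra.IsPushout A₀ A₁ B₀ P := CommRingCat.isPushout_iff_isPushout.mp hP.flip
    exact h4 A₀ A₁ B₀ P ha
  rw [← hc0]
  exact h3.comp h2.flat

/-- If `A₀ → A₁` is faithfully flat then so is the map of henselizations. -/
theorem faithfullyFlat_of_faithfullyFlat (h₀ : IsHens I φ₀) (h₁ : IsHens (I.map a) φ₁)
    (ha : a.FaithfullyFlat) {b : B₀ →+* B₁} (hb : b.comp φ₀ = φ₁.comp a) : b.FaithfullyFlat := by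
  have hflat := h₀.flat_of_flat h₁ ha.flat hb
  letI : Algebra B₀ B₁ := b.toAlgebra
  letI : Algebra A₀ A₁ := a.toAlgebra
  haveI : Module.Flat B₀ B₁ := hflat
  haveI : Module.FaithfullyFlat A₀ A₁ := ha
  change Module.FaithfullyFlat B₀ B₁
  refine ⟨fun m hm hcon => ?_⟩
  have h1 : I.map φ₀ ≤ m := h₀.jac.trans (by
    rw [Ideal.jacobson]
    exact sInf_le ⟨bot_le, hm⟩)
  have h2 : m.map b = ⊤ := by
    have : (m.map (algebraMap B₀ B₁)).restrictScalars B₀ = m • (⊤ : Submodule B₀ B₁) :=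
      (Ideal.smul_top_eq_map m).symm
    rw [hcon] at this
    have h3 : (1 : B₁) ∈ (m.map (algebraMap B₀ B₁)).restrictScalars B₀ := by rw [this]; trivial
    exact (Ideal.eq_top_iff_one _).mpr h3
  let n := m.comap φ₀
  have hIn : I ≤ n := Ideal.map_le_iff_le_comap.mp h1
  have h3 : (n.map a).map φ₁ = ⊤ := by
    rw [Ideal.map_map, ← hb, ← Ideal.map_map, h₀.map_comap_eq_self h1, h2]
  have h4 : n.map a = ⊤ := by
    rw [← h₁.comap_map_eq_self (Ideal.map_mono hIn), h3, Ideal.comap_top]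
  have h5 : n = ⊤ := by
    have := Ideal.comap_map_eq_self_of_faithfullyFlat (B := A₁) n
    rw [← this]
    change (n.map a).comap a = ⊤
    rw [h4, Ideal.comap_top]
  exact hm.ne_top ((Ideal.eq_top_iff_one _).mpr (by
    have : (1 : A₀) ∈ n := by rw [h5]; trivial
    have h6 : φ₀ 1 ∈ m := this
    rwa [map_one] at h6))

/-- For `A₀ → A₁` integral, the henselization of `(A₁, I A₁)` is the base change of the one of `(A₀, I)`. -/
theorem isPushout_of_isIntegral (h₀ : IsHens I φ₀) (h₁ : IsHens (I.map a) φ₁) (ha : a.IsIntegral) {b : B₀ →+* B₁}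
    (hb : b.comp φ₀ = φ₁.comp a) :
    IsPushout (CommRingCat.ofHom φ₀) (CommRingCat.ofHom a) (CommRingCat.ofHom b) (CommRingCat.ofHom φ₁) := by
  let P : CommRingCat.{u} := pushout (CommRingCat.ofHom φ₀) (CommRingCat.ofHom a)
  let p₀ : CommRingCat.of B₀ ⟶ P := pushout.inl (CommRingCat.ofHom φ₀) (CommRingCat.ofHom a)
  let p₁ : CommRingCat.of A₁ ⟶ P := pushout.inr (CommRingCat.ofHom φ₀) (CommRingCat.ofHom a)
  have hP : IsPushout (CommRingCat.ofHom φ₀) (CommRingCat.ofHom a) p₀ p₁ := IsPushout.of_hasPushout _ _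
  have hw : p₀.hom.comp φ₀ = p₁.hom.comp a := congrArg CommRingCat.Hom.hom hP.w
  let c : P ⟶ CommRingCat.of B₁ := hP.desc (CommRingCat.ofHom b) (CommRingCat.ofHom φ₁) (by
    rw [← CommRingCat.ofHom_comp, ← CommRingCat.ofHom_comp, hb])
  have hc0 : c.hom.comp p₀.hom = b := congrArg CommRingCat.Hom.hom (hP.inl_desc _ _ _)
  have hc1 : c.hom.comp p₁.hom = φ₁ := congrArg CommRingCat.Hom.hom (hP.inr_desc _ _ _)
  have h2 : IsHens (I.map (p₁.hom.comp a)) c.hom :=
    of_isPushout (p₀ := p₀.hom) (p₁ := p₁.hom) h₀ h₁ hP hc1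
  have h3 : p₀.hom.IsIntegral := by
    letI : Algebra A₀ B₀ := φ₀.toAlgebra
    letI : Algebra A₀ A₁ := a.toAlgebra
    letI : Algebra B₀ P := p₀.hom.toAlgebra
    letI : Algebra A₁ P := p₁.hom.toAlgebra
    letI : Algebra A₀ P := (p₁.hom.comp a).toAlgebra
    haveI : IsScalarTower A₀ A₁ P := .of_algebraMap_eq' rfl
    haveI : IsScalarTower A₀ B₀ P := .of_algebraMap_eq' (congrArg CommRingCat.Hom.hom hP.w).symm
    have h5 : Algebra.IsPushout A₀ A₁ B₀ P := CommRingCat.isPushout_iff_isPushout.mp hP.flip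
    exact RingHom.isIntegral_isStableUnderBaseChange A₀ A₁ B₀ P ha
  have h4 : HenselianRing P (I.map (p₁.hom.comp a)) := by
    haveI := h₀.henselian
    letI : Algebra B₀ P := p₀.hom.toAlgebra
    haveI : Algebra.IsIntegral B₀ P := ⟨h3⟩
    have h5 := Groth.Agent.S0526.result B₀ (I.map φ₀) P
    rw [Ideal.map_map] at h5
    have h6 : (algebraMap B₀ P).comp φ₀ = p₁.hom.comp a := hw
    rwa [h6] at h5
  have h5 : IsIso c := by
    obtain ⟨d, hd, -⟩ := h2.existsUnique_lift h4 (RingHom.id P) (by rw [Ideal.map_id])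
    have h6 : c.hom.comp d = RingHom.id B₁ := by
      refine h2.hom_ext h2.henselian (J := (I.map (p₁.hom.comp a)).map c.hom) ?_ ?_
      · rw [RingHom.comp_assoc, hd, RingHom.comp_id]
      · rw [RingHom.comp_assoc, hd, RingHom.comp_id, RingHom.id_comp]
    refine ⟨CommRingCat.ofHom d, ?_, ?_⟩
    · exact CommRingCat.hom_ext hd
    · exact CommRingCat.hom_ext h6
  have h6 : IsPushout (CommRingCat.ofHom φ₀) (CommRingCat.ofHom a) (p₀ ≫ c) (p₁ ≫ c) :=
    IsPushout.of_iso hP (Iso.refl _) (Iso.refl _) (Iso.refl _) (asIso c) (by simp) (by simp) (by simp) (by simp)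
  have h7 : p₀ ≫ c = CommRingCat.ofHom b := CommRingCat.hom_ext hc0
  have h8 : p₁ ≫ c = CommRingCat.ofHom φ₁ := CommRingCat.hom_ext hc1
  rwa [h7, h8] at h6

end baseChange

end IsHens

end K728.HensRing
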