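import Groth.Agent.UnramB.ArtinLift2
import Mathlib.RingTheory.Etale.Locus
import Mathlib.RingTheory.Jacobson.Artinian
import Mathlib.RingTheory.RingHom.Etale

/-!
# Etaleness at a closed point, tested on finite local `k`-algebras

The algebra form of S2794 for algebras of finite type over a field.
-/

set_option autoImplicit false
set_option linter.style.haveILetI false
universe u

namespace K728.EtAt

open IsLocalRing

theorem finite_of_residue {k : Type u} [Field k] (A' : Type u) [CommRing A'] [Algebra k A'] [IsLocalRing A'] [IsArtinianRing A']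
    {C : Type u} [CommRing C] [Algebra k C] [Algebra.FiniteType k C] (I : Ideal A') (hI : I ≠ ⊤) (c₀ : C →ₐ[k] A' ⧸ I)
    (hs : ∀ a' : A', ∃ c : C, c₀ c - Ideal.Quotient.mk I a' ∈ (maximalIdeal A').map (Ideal.Quotient.mk I)) :
    Module.Finite k A' := by
  have hIm : I ≤ maximalIdeal A' := le_maximalIdeal hI
  let q : A' ⧸ I →ₐ[k] A' ⧸ maximalIdeal A' := Ideal.Quotient.factorₐ k hIm
  have hsur : Function.Surjective (q.comp c₀) := by
    intro y
    obtain ⟨a', rfl⟩ := Ideal.Quotient.mk_surjective y
    obtain ⟨c, hc⟩ := hs a'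
    refine ⟨c, ?_⟩
    have h1 : (maximalIdeal A').map (Ideal.Quotient.mk I) ≤ RingHom.ker (q : A' ⧸ I →+* A' ⧸ maximalIdeal A') := by
      rw [Ideal.map_le_iff_le_comap]
      intro x hx
      rw [Ideal.mem_comap, RingHom.mem_ker]
      exact Ideal.Quotient.eq_zero_iff_mem.mpr hx
    have h2 := h1 hc
    rw [RingHom.mem_ker, map_sub, sub_eq_zero] at h2
    exact h2
  have hft : Algebra.FiniteType k (A' ⧸ maximalIdeal A') := Algebra.FiniteType.of_surjective (q.comp c₀) hsur
  letI : Field (A' ⧸ maximalIdeal A') := Ideal.Quotient.field _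
  have hfin : Module.Finite k (A' ⧸ maximalIdeal A') := finite_of_finite_type_of_isJacobsonRing k _
  have : Module.Finite k (A' ⧸ Ring.jacobson A') := by
    rw [ringJacobson_eq_maximalIdeal]
    exact hfin
  exact IsSemiprimaryRing.finite_of_isArtinian k A' A'

/-- **Etaleness at a maximal ideal** via unique liftings over finite local `k`-algebras. -/
theorem main (k : Type u) [Field k] (B C : Type u) [CommRing B] [Algebra k B] [Algebra.FiniteType k B] [CommRing C]
    [Algebra k C] [Algebra.FiniteType k C] (iB : B →ₐ[k] C) (m : Ideal C) (hm : m.IsMaximal)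
    (H : ∀ (A' : Type u) [CommRing A'] [Algebra k A'] [Module.Finite k A'] [IsLocalRing A'] (I : Ideal A'), I ≠ ⊤ →
      I * maximalIdeal A' = ⊥ → ∀ (b : B →ₐ[k] A') (c₀ : C →ₐ[k] A' ⧸ I),
      c₀.comp iB = (Ideal.Quotient.mkₐ k I).comp b →
      (∀ c ∈ m, c₀ c ∈ (maximalIdeal A').map (Ideal.Quotient.mk I)) →
      (∀ a' : A', ∃ c : C, c₀ c - Ideal.Quotient.mk I a' ∈ (maximalIdeal A').map (Ideal.Quotient.mk I)) →
      ∃! c : C →ₐ[k] A', c.comp iB = b ∧ (Ideal.Quotient.mkₐ k I).comp c = c₀) :
    ∃ g : C, g ∉ m ∧ ((algebraMap C (Localization.Away g)).comp iB.toRingHom).Etale := by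
  letI : Algebra B C := iB.toRingHom.toAlgebra
  haveI : IsScalarTower k B C := IsScalarTower.of_algebraMap_eq' iB.comp_algebraMap.symm
  haveI : m.IsPrime := hm.isPrime
  haveI : IsNoetherianRing B := Algebra.FiniteType.isNoetherianRing k B
  haveI : Algebra.FiniteType B C := Algebra.FiniteType.of_restrictScalars_finiteType k B C
  haveI : Algebra.FinitePresentation B C := Algebra.FinitePresentation.of_finiteType.mp inferInstance
  let n : Ideal B := m.under B
  letI := Localization.AtPrime.algebraOfLiesOver n m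
  let A0 := Localization.AtPrime n
  let C0 := Localization.AtPrime m
  have hloc : IsLocalHom (algebraMap A0 C0) := inferInstance
  have hessB : Algebra.EssFiniteType B C0 := Algebra.EssFiniteType.comp B C C0
  have hess : Algebra.EssFiniteType A0 C0 := Algebra.EssFiniteType.of_comp B A0 C0
  have hN : IsNoetherianRing A0 := inferInstance
  have key : ∀ (A' : Type u) [CommRing A'] [IsLocalRing A'] [IsArtinianRing A']
      (h : A0 →+* A') [IsLocalHom h]
      (I : Ideal A') (_ : I ≠ ⊤) (_ : I * IsLocalRing.maximalIdeal A' = ⊥)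
      (g₀ : C0 →+* A' ⧸ I),
      g₀.comp (algebraMap A0 C0) = (Ideal.Quotient.mk I).comp h →
      (∀ b ∈ IsLocalRing.maximalIdeal C0,
        g₀ b ∈ (IsLocalRing.maximalIdeal A').map (Ideal.Quotient.mk I)) →
      (∀ a' : A', ∃ b : C0,
        g₀ b - Ideal.Quotient.mk I a' ∈ (IsLocalRing.maximalIdeal A').map (Ideal.Quotient.mk I)) →
      ∃! g : C0 →+* A', g.comp (algebraMap A0 C0) = h ∧ (Ideal.Quotient.mk I).comp g = g₀ := by
    intro A' _ _ _ h _ I hI hI' g₀ hg₀ ha hb
    letI : Algebra k A' := (h.comp (algebraMap k A0)).toAlgebra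
    let b : B →ₐ[k] A' := { h.comp (algebraMap B A0) with
      commutes' := fun r => by
        change h (algebraMap B A0 (algebraMap k B r)) = h (algebraMap k A0 r)
        rw [← IsScalarTower.algebraMap_apply k B A0] }
    let c₀ : C →ₐ[k] A' ⧸ I := { g₀.comp (algebraMap C C0) with
      commutes' := fun r => by
        change g₀ (algebraMap C C0 (algebraMap k C r)) = Ideal.Quotient.mk I (h (algebraMap k A0 r))
        have h1 := congr($hg₀ (algebraMap k A0 r))
        change g₀ (algebraMap A0 C0 (algebraMap k A0 r)) = _ at h1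
        rw [← RingHom.comp_apply (Ideal.Quotient.mk I), ← h1]
        congr 1
        rw [← IsScalarTower.algebraMap_apply k C C0, IsScalarTower.algebraMap_apply k B A0,
          ← IsScalarTower.algebraMap_apply B A0 C0, ← IsScalarTower.algebraMap_apply k B C0] }
    have hc₀m : ∀ c ∈ m, c₀ c ∈ (maximalIdeal A').map (Ideal.Quotient.mk I) := fun c hc =>
      ha _ ((IsLocalization.AtPrime.to_map_mem_maximal_iff C0 m c).mpr hc)
    have hc₀s : ∀ a' : A', ∃ c : C, c₀ c - Ideal.Quotient.mk I a' ∈ (maximalIdeal A').map (Ideal.Quotient.mk I) := by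
      intro a'
      obtain ⟨y, hy⟩ := hb a'
      obtain ⟨⟨x, s⟩, hxs⟩ := IsLocalization.surj m.primeCompl y
      obtain ⟨s', t, ht, hst⟩ := hm.exists_inv s.2
      refine ⟨x * s', ?_⟩
      have h1 : c₀ (x * s') - g₀ y = - (g₀ y * c₀ t) := by
        change g₀ (algebraMap C C0 (x * s')) - g₀ y = - (g₀ y * g₀ (algebraMap C C0 t))
        have h2 : algebraMap C C0 x = y * algebraMap C C0 s := hxs.symm
        have h3 : algebraMap C C0 t = 1 - algebraMap C C0 s * algebraMap C C0 s' := by
          rw [← map_mul, ← map_one (algebraMap C C0), ← map_sub]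
          congr 1
          rw [← hst]
          ring
        rw [← map_mul, ← map_neg, ← map_sub]
        congr 1
        rw [map_mul, h2, h3]
        ring
      have h2 : c₀ (x * s') - Ideal.Quotient.mk I a' = (c₀ (x * s') - g₀ y) + (g₀ y - Ideal.Quotient.mk I a') := by ring
      rw [h2, h1]
      exact Ideal.add_mem _ (Ideal.neg_mem_iff _ |>.mpr (Ideal.mul_mem_left _ _ (hc₀m t ht))) hy
    have hfin : Module.Finite k A' := finite_of_residue A' I hI c₀ hc₀s
    obtain ⟨c, ⟨hc1, hc2⟩, hc3⟩ := H A' I hI hI' b c₀ (by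
      refine AlgHom.ext fun x => ?_
      change g₀ (algebraMap C C0 (algebraMap B C x)) = Ideal.Quotient.mk I (h (algebraMap B A0 x))
      have h1 := congr($hg₀ (algebraMap B A0 x))
      rw [← RingHom.comp_apply (Ideal.Quotient.mk I), ← h1]
      change _ = g₀ (algebraMap A0 C0 (algebraMap B A0 x))
      rw [← IsScalarTower.algebraMap_apply B C C0, ← IsScalarTower.algebraMap_apply B A0 C0]) hc₀m hc₀s
    have hIm : I ≤ maximalIdeal A' := le_maximalIdeal hI
    have hext : ∀ {D : Type u} [CommRing D] (g g' : C0 →+* D), g.comp (algebraMap C C0) = g'.comp (algebraMap C C0) → g = g' :=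
      fun g g' h => IsLocalization.ringHom_ext m.primeCompl h
    have hext' : ∀ {D : Type u} [CommRing D] (g g' : A0 →+* D), g.comp (algebraMap B A0) = g'.comp (algebraMap B A0) → g = g' :=
      fun g g' h => IsLocalization.ringHom_ext n.primeCompl h
    have hu : ∀ y : m.primeCompl, IsUnit ((c : C →+* A') y) := by
      intro y
      have h1 : IsUnit (Ideal.Quotient.mk I ((c : C →+* A') y)) := by
        have h2 : Ideal.Quotient.mk I ((c : C →+* A') y) = g₀ (algebraMap C C0 y) := congr($hc2 (y : C))
        rw [h2]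
        exact (IsLocalization.map_units C0 y).map g₀
      by_contra hcon
      have h3 : (c : C →+* A') y ∈ maximalIdeal A' := (mem_maximalIdeal _).mpr hcon
      have h4 : IsUnit (Ideal.Quotient.factor hIm (Ideal.Quotient.mk I ((c : C →+* A') y))) := h1.map _
      rw [Ideal.Quotient.factor_mk, Ideal.Quotient.eq_zero_iff_mem.mpr h3] at h4
      exact not_isUnit_zero h4
    let g : C0 →+* A' := IsLocalization.lift hu
    have hg : g.comp (algebraMap C C0) = (c : C →+* A') := IsLocalization.lift_comp hu
    have hg1 : g.comp (algebraMap A0 C0) = h := by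
      refine hext' _ _ (RingHom.ext fun x => ?_)
      change g (algebraMap A0 C0 (algebraMap B A0 x)) = h (algebraMap B A0 x)
      rw [← IsScalarTower.algebraMap_apply B A0 C0, IsScalarTower.algebraMap_apply B C C0]
      have h1 := congr($hg (algebraMap B C x))
      have h2 := congr($hc1 x)
      exact h1.trans h2
    have hg2 : (Ideal.Quotient.mk I).comp g = g₀ := by
      refine hext _ _ (RingHom.ext fun x => ?_)
      have h1 := congr($hg x)
      have h2 := congr($hc2 x)
      exact (congrArg (Ideal.Quotient.mk I) h1).trans h2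
    refine ⟨g, ⟨hg1, hg2⟩, ?_⟩
    rintro g' ⟨hg1', hg2'⟩
    refine hext _ _ ?_
    rw [hg]
    let c' : C →ₐ[k] A' := { g'.comp (algebraMap C C0) with
      commutes' := fun r => by
        change g' (algebraMap C C0 (algebraMap k C r)) = h (algebraMap k A0 r)
        rw [← hg1']
        change _ = g' (algebraMap A0 C0 (algebraMap k A0 r))
        congr 1
        rw [← IsScalarTower.algebraMap_apply k C C0, IsScalarTower.algebraMap_apply k B A0,
          ← IsScalarTower.algebraMap_apply B A0 C0, ← IsScalarTower.algebraMap_apply k B C0] }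
    have h1 : c' = c := hc3 c' ⟨by
      refine AlgHom.ext fun x => ?_
      change g' (algebraMap C C0 (algebraMap B C x)) = h (algebraMap B A0 x)
      rw [← hg1']
      change _ = g' (algebraMap A0 C0 (algebraMap B A0 x))
      rw [← IsScalarTower.algebraMap_apply B C C0, ← IsScalarTower.algebraMap_apply B A0 C0], by
      refine AlgHom.ext fun x => ?_
      exact congr($hg2' (algebraMap C C0 x))⟩
    rw [← h1]
    rfl
  have h1 : Algebra.FormallySmooth A0 C0 :=
    Groth.Agent.UnramB.ArtinLift.formallySmooth_iff_hasArtinLift.mpr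
      fun A' _ _ _ h _ I hI hI' g₀ hg₀ ha hb => (key A' h I hI hI' g₀ hg₀ ha hb).exists
  have h2 : Algebra.FormallyUnramified A0 C0 :=
    Groth.Agent.UnramB.ArtinLift.formallyUnramified_iff_uniqueArtinLift.mpr
      fun A' _ _ _ h _ I hI hI' g₀ hg₀ ha hb g g' hg hg' => (key A' h I hI hI' g₀ hg₀ ha hb).unique hg hg'
  have h3 : Algebra.FormallyEtale A0 C0 := Algebra.FormallyEtale.iff_formallyUnramified_and_formallySmooth.mpr ⟨h2, h1⟩
  have h4 : Algebra.FormallyEtale B A0 := Algebra.FormallyEtale.of_isLocalization n.primeCompl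
  have h5 : Algebra.IsEtaleAt B m := Algebra.FormallyEtale.comp B A0 C0
  obtain ⟨g, hg, hg'⟩ := Algebra.exists_etale_of_isEtaleAt (R := B) m
  refine ⟨g, hg, ?_⟩
  have h6 : (algebraMap C (Localization.Away g)).comp iB.toRingHom = algebraMap B (Localization.Away g) :=
    (IsScalarTower.algebraMap_eq B C (Localization.Away g)).symm
  rw [h6, RingHom.etale_algebraMap]
  exact hg'

end K728.EtAt
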